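import Cfsg.Agent.H387.VO.Minimal
import Cfsg.Agent.Lib.NormalAbelian

/-!
# Groups with one class of `p`-singular vanishing elements: the reduction (helper387, S4987)

* `Row p S` : what has to be shown for the simple groups;
* `main` : the reduction.
-/

set_option autoImplicit false

namespace Cfsg.Agent.H387.VO

open Cfsg Cfsg.Agent.Characters Subgroup Cfsg.Agent.H620.PNorm Cfsg.Agent.H727.VanEl

universe u

/-- Two `p`-singular elements, not conjugate under `Aut S`, both zeros of irreducible characters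
(together with all their images under automorphisms). -/
def TwoVan (p : ℕ) (S : Type*) [Group S] : Prop :=
  ∃ x y : S, p ∣ orderOf x ∧ p ∣ orderOf y ∧ H713.VZ S x ∧ H713.VZ S y ∧ ∀ α : MulAut S, α x ≠ y

theorem TwoVan.mulEquiv {p : ℕ} {S S' : Type*} [Group S] [Group S'] (h : TwoVan p S) (e : S ≃* S') :
    TwoVan p S' := by
  obtain ⟨x, y, hx, hy, hvx, hvy, hne⟩ := h
  refine ⟨e x, e y, by rwa [MulEquiv.orderOf_eq], by rwa [MulEquiv.orderOf_eq], hvx.mulEquiv e,
    hvy.mulEquiv e, fun α h => ?_⟩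
  refine hne ((e.trans α).trans e.symm) ?_
  show e.symm (α (e x)) = y
  rw [h, MulEquiv.symm_apply_apply]

/-- Elements of different orders. -/
theorem TwoVan.of_order {p : ℕ} {S : Type*} [Group S] {x y : S} (hx : p ∣ orderOf x) (hy : p ∣ orderOf y)
    (hvx : H713.VZ S x) (hvy : H713.VZ S y) (hne : orderOf x ≠ orderOf y) : TwoVan p S := by
  refine ⟨x, y, hx, hy, hvx, hvy, fun α h => hne ?_⟩
  rw [← h, MulEquiv.orderOf_eq]

/-- What has to be shown for the simple groups. -/
def Row (p : ℕ) [Fact p.Prime] (S : Type*) [Group S] : Prop :=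
  (Nat.card S).factorization p = 1 ∨
  (∃ f : ℕ, 2 ≤ f ∧ Nonempty (S ≃* Matrix.ProjectiveSpecialLinearGroup (Fin 2) (GaloisField p f))) ∨
  TwoVan p S

theorem Row.mulEquiv {p : ℕ} [Fact p.Prime] {S S' : Type*} [Group S] [Group S'] (h : Row p S)
    (e : S ≃* S') : Row p S' := by
  rcases h with h | ⟨f, hf, ⟨i⟩⟩ | h
  · left; rwa [← Nat.card_congr e.toEquiv]
  · right; left; exact ⟨f, hf, ⟨e.symm.trans i⟩⟩
  · right; right; exact h.mulEquiv e

/-- S1942. -/
def Gross (p : ℕ) : Prop := ∀ (S : Type u) [Group S] [Finite S] [IsSimpleGroup S],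
  (∃ a b : S, a * b ≠ b * a) → p ∣ Nat.card S → ∀ (P : Sylow p S) (α : MulAut S),
  (∃ j : ℕ, orderOf α = p ^ j) → (∀ x ∈ (P : Subgroup S), α x = x) → ∃ g : S, ∀ x : S, α x = g * x * g⁻¹

/-- The case of `PSL₂(p^f)`. -/
def PslHyp (p : ℕ) [Fact p.Prime] : Prop := ∀ (G : Type u) [Group G] [Finite G] (L : Subgroup G) [L.Normal]
  (f : ℕ), 2 ≤ f → Nonempty (L ≃* Matrix.ProjectiveSpecialLinearGroup (Fin 2) (GaloisField p f)) →
  Subgroup.centralizer (L : Set G) = ⊥ → (∀ x : G, Van x → p ∣ orderOf x → x ∈ L) →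
  ∀ P : Sylow p G, ∀ a ∈ (P : Subgroup G), ∀ b ∈ (P : Subgroup G), a * b = b * a

/-- A section `PSL₂(p^f)`, `f ≥ 2`, of a subnormal subgroup. -/
def PslSec (p : ℕ) [Fact p.Prime] (G : Type*) [Group G] : Prop :=
  ∃ (H : Subgroup G) (K : Subgroup ↥H) (_ : K.Normal), H.IsSubnormal ∧ ∃ f : ℕ, 2 ≤ f ∧
    Nonempty (↥H ⧸ K ≃* Matrix.ProjectiveSpecialLinearGroup (Fin 2) (GaloisField p f))

theorem PslSec.of_quot {p : ℕ} [Fact p.Prime] {G : Type*} [Group G] (N : Subgroup G) [N.Normal]
    (h : PslSec p (G ⧸ N)) : PslSec p G := by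
  obtain ⟨H, K, hK, hH, f, hf, ⟨e⟩⟩ := h
  let φ : (H.comap (QuotientGroup.mk' N)) →* H := (QuotientGroup.mk' N).subgroupComap H
  have hφ : Function.Surjective φ := by
    rintro ⟨y, hy⟩
    obtain ⟨x, rfl⟩ := QuotientGroup.mk_surjective y
    exact ⟨⟨x, hy⟩, rfl⟩
  let ψ := (QuotientGroup.mk' K).comp φ
  have hψ : Function.Surjective ψ := (QuotientGroup.mk'_surjective K).comp hφ
  exact ⟨H.comap (QuotientGroup.mk' N), ψ.ker, inferInstance, hH.comap _, f, hf,
    ⟨(QuotientGroup.quotientKerEquivOfSurjective ψ hψ).trans e⟩⟩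

/-- The claim. -/
def Claim (p : ℕ) [Fact p.Prime] (G : Type*) [Group G] : Prop :=
  ¬ p ^ 2 ∣ (pCore p G).index ∨ (PslSec p G ∧ ∀ P : Sylow p G, ∀ a ∈ (P : Subgroup G),
    ∀ b ∈ (P : Subgroup G), a * b * a⁻¹ * b⁻¹ ∈ pCore p G)

/-- The Sylow subgroup of a normal simple subgroup of order divisible by `p` exactly once. -/
theorem sylow_le {G : Type u} [Group G] [Finite G] {p : ℕ} [hp : Fact p.Prime] (hgr : Gross.{u} p)
    (L : Subgroup G) [hL : L.Normal] [IsSimpleGroup L] (hna : ∃ a b : L, a * b ≠ b * a)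
    (hC : Subgroup.centralizer (L : Set G) = ⊥) (h1 : (Nat.card L).factorization p = 1) :
    ∃ P : Sylow p G, (P : Subgroup G) ≤ L := by
  have hpL : p ∣ Nat.card L := by
    by_contra hnd
    rw [Nat.factorization_eq_zero_of_not_dvd hnd] at h1
    exact zero_ne_one h1
  obtain ⟨S⟩ : Nonempty (Sylow p L) := inferInstance
  have hScard : Nat.card (S : Subgroup L) = p := by
    rw [S.card_eq_multiplicity, h1, pow_one]
  let Q : Subgroup G := (S : Subgroup L).map L.subtype
  have hQp : IsPGroup p Q := S.2.map L.subtype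
  obtain ⟨P, hQP⟩ := hQp.exists_le_sylow
  have hQL : Q ≤ L := Subgroup.map_subtype_le _
  have hPL : (P : Subgroup G) ⊓ L = Q := by
    apply le_antisymm _ (le_inf hQP hQL)
    have h2 : IsPGroup p (((P : Subgroup G) ⊓ L).subgroupOf L) :=
      (P.2.to_le inf_le_left).comap_subtype
    have h3 : (S : Subgroup L) ≤ ((P : Subgroup G) ⊓ L).subgroupOf L := by
      intro s hs
      rw [Subgroup.mem_subgroupOf]
      exact ⟨hQP ⟨s, hs, rfl⟩, s.2⟩
    have h4 := S.3 h2 h3
    rintro x ⟨hxP, hxL⟩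
    have h5 : (⟨x, hxL⟩ : L) ∈ ((P : Subgroup G) ⊓ L).subgroupOf L := by
      rw [Subgroup.mem_subgroupOf]
      exact ⟨hxP, hxL⟩
    rw [h4] at h5
    exact ⟨_, h5, rfl⟩
  have hQcard : Nat.card Q = p := by
    rw [← hScard]
    exact (Nat.card_congr ((S : Subgroup L).equivMapOfInjective L.subtype L.subtype_injective).toEquiv).symm
  -- `Q` is central in `P`
  have hcent : ∀ y ∈ (P : Subgroup G), ∀ x ∈ Q, y * x = x * y := by
    let Q' : Subgroup P := Q.subgroupOf P
    have hQ'n : Q'.Normal := by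
      constructor
      intro x hx y
      rw [Subgroup.mem_subgroupOf] at hx ⊢
      rw [← hPL]
      refine ⟨(y * x * y⁻¹).2, ?_⟩
      push_cast
      exact hL.conj_mem _ (hQL hx) _
    have hnil : Group.IsNilpotent P := P.2.isNilpotent
    have hQ'1 : Q' ≠ ⊥ := by
      intro h
      have h2 : Nat.card Q' = p :=
        (Nat.card_congr (Subgroup.subgroupOfEquivOfLe hQP).toEquiv).trans hQcard
      rw [h, Subgroup.card_bot] at h2
      exact hp.out.one_lt.ne h2
    have h2 := Cfsg.Agent.Lib.NormalAbelian.normal_inf_center_ne_bot Q' hQ'1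
    obtain ⟨z, hz, hz1⟩ := (Subgroup.bot_or_exists_ne_one _).resolve_left h2
    -- `z` generates `Q'`
    intro y hy x hx
    have hzQ : (z : G) ∈ Q := Subgroup.mem_subgroupOf.1 hz.1
    have hz1' : (⟨z, hzQ⟩ : Q) ≠ 1 := fun h => hz1 (Subtype.ext (congrArg (Subtype.val : Q → G) h))
    have h3 : (⟨x, hx⟩ : Q) ∈ Submonoid.powers (⟨z, hzQ⟩ : Q) := mem_powers_of_prime_card hQcard hz1'
    obtain ⟨i, hi⟩ := h3
    have hi' : (z : G) ^ i = x := congrArg Subtype.val hi
    have h4 : (⟨y, hy⟩ : P) * z = z * ⟨y, hy⟩ := Subgroup.mem_center_iff.1 hz.2 _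
    have h5 : Commute y (z : G) := congrArg Subtype.val h4
    rw [← hi']
    exact h5.pow_right i
  refine ⟨P, fun y hy => ?_⟩
  have hord : ∃ j : ℕ, orderOf (MulAut.conjNormal y : MulAut L) = p ^ j := by
    obtain ⟨k, hk⟩ := (IsPGroup.iff_orderOf.1 P.2) ⟨y, hy⟩
    rw [Subgroup.orderOf_mk] at hk
    have h2 : orderOf (MulAut.conjNormal y : MulAut L) ∣ p ^ k := by
      rw [← hk]
      exact orderOf_map_dvd MulAut.conjNormal y
    obtain ⟨j, -, hj⟩ := (Nat.dvd_prime_pow hp.out).1 h2
    exact ⟨j, hj⟩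
  obtain ⟨g, hg⟩ := hgr L hna hpL S (MulAut.conjNormal y) hord (by
    intro x hx
    apply Subtype.ext
    rw [MulAut.conjNormal_apply]
    rw [hcent y hy x ⟨x, hx, rfl⟩, mul_inv_cancel_right])
  have h2 : (g : G)⁻¹ * y ∈ Subgroup.centralizer (L : Set G) := by
    rw [Subgroup.mem_centralizer_iff]
    intro x hx
    have h3 := congrArg Subtype.val (hg ⟨x, hx⟩)
    rw [MulAut.conjNormal_apply] at h3
    have h4 : y * x * y⁻¹ = g * x * (g : G)⁻¹ := h3
    have h5 : (g : G)⁻¹ * (y * x * y⁻¹) * y = (g : G)⁻¹ * (g * x * (g : G)⁻¹) * y := by rw [h4]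
    have h6 : (g : G)⁻¹ * (y * x * y⁻¹) * y = (g : G)⁻¹ * y * x := by group
    have h7 : (g : G)⁻¹ * (g * x * (g : G)⁻¹) * y = x * ((g : G)⁻¹ * y) := by group
    rw [h6, h7] at h5
    exact h5.symm
  rw [hC, Subgroup.mem_bot, inv_mul_eq_one] at h2
  rw [← h2]
  exact g.2

/-- **The reduction.** -/
theorem main (hCC : CCAll.{u}) {p : ℕ} [hp : Fact p.Prime] (hns : NormSyl.{u} p)
    (hpow : ∀ (S : Type u) [Group S] [Finite S] [IsSimpleGroup S], (∃ a b : S, a * b ≠ b * a) →
      p ∣ Nat.card S → VSing p S)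
    (hrow : ∀ (S : Type u) [Group S] [Finite S] [IsSimpleGroup S], (∃ a b : S, a * b ≠ b * a) →
      p ∣ Nat.card S → Row p S)
    (hpsl : PslHyp.{u} p) (hgr : Gross.{u} p) (n : ℕ) :
    ∀ (G : Type u) [Group G] [Finite G], Nat.card G = n → OneVan p G → Claim p G := by
  induction n using Nat.strong_induction_on with
  | _ n ih =>
    intro G _ _ hn h0
    by_cases hO : pCore p G = ⊥
    swap
    · -- `O_p(G) ≠ 1`
      have hNn : (pCore p G).Normal := Cfsg.Agent.Lib.Cores.pCore_normal p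
      have hlt : Nat.card (G ⧸ pCore p G) < n := hn ▸ card_quot_lt (pCore p G) hO
      have h4 : pCore p (G ⧸ pCore p G) = ⊥ := Cfsg.Agent.Lib.Cores.pCore_quotient_pCore p
      rcases ih _ hlt (G ⧸ pCore p G) rfl (oneVan_quotient h0 _) with h1 | ⟨h1, h2⟩
      · left
        rw [h4, Subgroup.index_bot, ← Subgroup.index_eq_card] at h1
        exact h1
      · right
        refine ⟨h1.of_quot _, fun P a ha b hb => ?_⟩
        have h3 := h2 (P.mapSurjective (QuotientGroup.mk'_surjective (pCore p G)))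
          (QuotientGroup.mk a) (by rw [Sylow.coe_mapSurjective]; exact ⟨a, ha, rfl⟩)
          (QuotientGroup.mk b) (by rw [Sylow.coe_mapSurjective]; exact ⟨b, hb, rfl⟩)
        rw [h4, Subgroup.mem_bot] at h3
        rw [← QuotientGroup.eq_one_iff]
        exact h3
    have hcore : ∀ K : Subgroup G, K.Normal → IsPGroup p K → K = ⊥ := by
      intro K hK hKp
      rw [eq_bot_iff, ← hO]
      exact Cfsg.Agent.Lib.Cores.le_pCore hK hKp
    rcases subsingleton_or_nontrivial G with hG | hG
    · left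
      rw [hO, Subgroup.index_bot, Nat.card_of_subsingleton (1 : G)]
      intro h
      have := Nat.le_of_dvd one_pos h
      have h2 := hp.out.two_le
      nlinarith
    by_cases hex : ∃ N : Subgroup G, N.Normal ∧ N ≠ ⊥ ∧
        (∀ M : Subgroup G, M.Normal → M ≤ N → M = ⊥ ∨ M = N) ∧ ¬ p ∣ Nat.card N
    · -- a minimal normal `p'`-subgroup
      obtain ⟨N, hNn, hNb, hmin, hNp⟩ := hex
      have hcopN : (p ^ 2).Coprime (Nat.card N) :=
        Nat.Coprime.pow_left _ ((Nat.Prime.coprime_iff_not_dvd hp.out).2 hNp)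
      have hq : ¬ p ^ 2 ∣ Nat.card (G ⧸ N) → Claim p G := by
        intro h1
        left
        rw [hO, Subgroup.index_bot, ← N.index_mul_card, Subgroup.index_eq_card]
        intro h
        exact h1 (hcopN.dvd_of_dvd_mul_right h)
      by_cases hQ : pCore p (G ⧸ N) = ⊥
      · rcases ih _ (hn ▸ card_quot_lt N hNb) (G ⧸ N) rfl (oneVan_quotient h0 _) with h1 | ⟨h1, h2⟩
        · apply hq
          rwa [hQ, Subgroup.index_bot] at h1
        · right
          refine ⟨h1.of_quot _, fun P a ha b hb => ?_⟩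
          have h3 := h2 (P.mapSurjective (QuotientGroup.mk'_surjective N))
            (QuotientGroup.mk a) (by rw [Sylow.coe_mapSurjective]; exact ⟨a, ha, rfl⟩)
            (QuotientGroup.mk b) (by rw [Sylow.coe_mapSurjective]; exact ⟨b, hb, rfl⟩)
          rw [hQ, Subgroup.mem_bot] at h3
          have h4 : a * b * a⁻¹ * b⁻¹ ∈ N := by
            rw [← QuotientGroup.eq_one_iff]
            exact h3
          have h5 : a * b * a⁻¹ * b⁻¹ ∈ (P : Subgroup G) := (P : Subgroup G).mul_mem
            ((P : Subgroup G).mul_mem ((P : Subgroup G).mul_mem ha hb) ((P : Subgroup G).inv_mem ha))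
            ((P : Subgroup G).inv_mem hb)
          have h6 : (P : Subgroup G) ⊓ N = ⊥ := by
            rw [← disjoint_iff]
            apply disjoint_of_coprime_natCard
            obtain ⟨m, hm⟩ := (IsPGroup.iff_card).1 P.2
            rw [hm]
            exact Nat.Coprime.pow_left m ((Nat.Prime.coprime_iff_not_dvd hp.out).2 hNp)
          have h7 : a * b * a⁻¹ * b⁻¹ ∈ (P : Subgroup G) ⊓ N := ⟨h5, h4⟩
          rw [h6, Subgroup.mem_bot] at h7
          rw [h7]
          exact Subgroup.one_mem _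
      · exact hq (case_coprime hCC hns hO h0 N hNb hmin hNp hQ)
    -- all minimal normal subgroups have order divisible by `p`
    push Not at hex
    have hdata : ∀ N : Subgroup G, N.Normal → N ≠ ⊥ →
        (∀ M : Subgroup G, M.Normal → M ≤ N → M = ⊥ ∨ M = N) →
        IsSimpleGroup N ∧ (∃ a b : N, a * b ≠ b * a) ∧ p ∣ Nat.card N ∧
          (∀ x : N, H713.VZ N x → H713.Van G (x : G)) := by
      intro N hNn hNb hmin
      have hpN := hex N hNn hNb hmin
      have hna : ¬ ∀ x ∈ N, ∀ y ∈ N, Commute x y := by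
        intro hab
        obtain ⟨S⟩ : Nonempty (Sylow p N) := inferInstance
        have hSn : (S : Subgroup N).Normal := by
          constructor
          intro a ha b
          have : b * a * b⁻¹ = a := by
            rw [show b * a = a * b from Subtype.ext (hab b b.2 a a.2), mul_inv_cancel_right]
          rw [this]; exact ha
        have hSc : (S : Subgroup N).Characteristic := Sylow.characteristic_of_normal S hSn
        have hmapn : ((S : Subgroup N).map N.subtype).Normal := inferInstance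
        have h2 := hcore _ hmapn (S.2.map N.subtype)
        rw [Subgroup.map_eq_bot_iff_of_injective _ N.subtype_injective] at h2
        have h3 := S.not_dvd_index
        rw [h2, Subgroup.index_bot] at h3
        exact h3 hpN
      obtain ⟨T, hTN, hTs, hTna, hTp, hTv, hT⟩ := minimal_data N hmin hna p hpN
      rcases hT with rfl | hT
      · exact ⟨hTs, hTna, hTp, hTv⟩
      · exfalso
        obtain ⟨x, hpx, hx⟩ := hpow T hTna hTp
        obtain ⟨y, hvy, hpy, hne⟩ := hT x hx hpx
        exact hne (h0 (x : G) y (hTv x hx) (by rwa [Subgroup.orderOf_coe]) hvy hpy)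
    obtain ⟨L, hLn, hLb, -, hLmin⟩ := Cfsg.Agent.H620.PN.exists_min_le (⊤ : Subgroup G) inferInstance top_ne_bot
    obtain ⟨hLs, hLna, hLp, hLv⟩ := hdata L hLn hLb hLmin
    obtain ⟨x0, hj0, hx0⟩ := hpow L hLna hLp
    have hv0 := hLv x0 hx0
    have hp0 : p ∣ orderOf (x0 : G) := by rwa [Subgroup.orderOf_coe]
    have hinL : ∀ x : G, Van x → p ∣ orderOf x → x ∈ L := by
      intro x hx hxp
      obtain ⟨c, hc⟩ := isConj_iff.1 (h0 (x0 : G) x hv0 hp0 hx hxp)
      rw [← hc]
      exact hLn.conj_mem _ x0.2 c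
    have hcen : Subgroup.centralizer (L : Set G) = ⊥ := by
      by_contra hne
      obtain ⟨M, hMn, hMb, hMle, hMmin⟩ :=
        Cfsg.Agent.H620.PN.exists_min_le (Subgroup.centralizer (L : Set G)) inferInstance hne
      obtain ⟨hMs, hMna, hMp, hMv⟩ := hdata M hMn hMb hMmin
      obtain ⟨x1, hj1, hx1⟩ := hpow M hMna hMp
      have hv1 := hMv x1 hx1
      have hp1 : p ∣ orderOf (x1 : G) := by rwa [Subgroup.orderOf_coe]
      have h1 := hinL (x1 : G) hv1 hp1
      have h2 : (⟨x1, h1⟩ : L) ∈ Subgroup.center L := by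
        rw [Subgroup.mem_center_iff]
        intro g
        apply Subtype.ext
        exact Subgroup.mem_centralizer_iff.1 (hMle x1.2) g g.2
      have h3 : Subgroup.center L = ⊥ := by
        rcases (inferInstance : (Subgroup.center L).Normal).eq_bot_or_eq_top with h | h
        · exact h
        · exfalso
          obtain ⟨a, b, hab⟩ := hLna
          have : b ∈ Subgroup.center L := by rw [h]; exact Subgroup.mem_top _
          exact hab (Subgroup.mem_center_iff.1 this a)
      rw [h3, Subgroup.mem_bot] at h2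
      have h4 : (x1 : G) = 1 := congrArg Subtype.val h2
      rw [h4, orderOf_one] at hp1
      exact hp.out.one_lt.ne' (Nat.dvd_one.1 hp1)
    rcases hrow L hLna hLp with h1 | ⟨f, hf, hiso⟩ | h1
    · left
      obtain ⟨P, hP⟩ := sylow_le hgr L hLna hcen h1
      rw [hO, Subgroup.index_bot]
      intro h2
      have h3 : p ^ 2 ∣ Nat.card (P : Subgroup G) := by
        rw [P.card_eq_multiplicity]
        exact pow_dvd_pow p ((hp.out.pow_dvd_iff_le_factorization Nat.card_pos.ne').1 h2)
      have h4 := h3.trans (Subgroup.card_dvd_of_le hP)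
      have h5 := (hp.out.pow_dvd_iff_le_factorization (Nat.card_pos (α := L)).ne').1 h4
      omega
    · right
      obtain ⟨e⟩ := hiso
      refine ⟨⟨L, ⊥, inferInstance, hLn.isSubnormal, f, hf, ⟨QuotientGroup.quotientBot.trans e⟩⟩, ?_⟩
      intro P a ha b hb
      have h2 := hpsl G L f hf ⟨e⟩ hcen hinL P a ha b hb
      have h3 : a * b * a⁻¹ * b⁻¹ = 1 := by rw [h2]; group
      rw [h3]
      exact Subgroup.one_mem _
    · exfalso
      obtain ⟨x, y, hx, hy, hvx, hvy, hne⟩ := h1
      obtain ⟨c, hc⟩ := isConj_iff.1 (h0 (x : G) y (hLv x hvx) (by rwa [Subgroup.orderOf_coe])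
        (hLv y hvy) (by rwa [Subgroup.orderOf_coe]))
      apply hne (MulAut.conjNormal c)
      apply Subtype.ext
      rw [MulAut.conjNormal_apply]
      exact hc

end Cfsg.Agent.H387.VO
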