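import Cfsg.Agent.H387.VO.Known
import Cfsg.Agent.H686.VO.PSL
import Cfsg.Agent.H686.VO.PSp
import Cfsg.Agent.H206.VanPSU.Row
import Cfsg.Agent.H724.VO.Odd
import Cfsg.Agent.H724.VO.MinusRow
import Cfsg.Agent.H829.Van.OPlus
import Cfsg.Agent.H86.Van.E7
import Cfsg.Agent.H344.VanE8
import Cfsg.Agent.H473.Van.Rows
import Cfsg.Agent.H654.Van.F4
import Cfsg.Agent.H654.Van.TwF4
import Cfsg.Agent.H975.VanE.RowE6
import Cfsg.Agent.H975.VanE.RowTwE6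
import Cfsg.Agent.H620.TwoVanSporAll

/-!
# S4987: assembly of the rows (helper387)
-/

set_option autoImplicit false

namespace Cfsg.Agent.H387.VO.Known

open Cfsg Cfsg.Agent.Characters Cfsg.Agent.H620 Cfsg.Agent.H620.PNorm Cfsg.Lie

universe u

/-- All the rows. -/
theorem fam {p : ℕ} [hp : Fact p.Prime] (hp5 : 5 ≤ p) : Fam.{u} p where
  psl K _ _ _ r hr hpr h hd := H686.VO.row_psl hr h hp5 hpr hd
  psp K _ _ _ r hr hpr h hd := H686.VO.row_psp hr h hp5 hpr hd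
  psu K _ _ _ r hr hpr h hd := H206.VanPSU.row hr h hp5 hpr hd
  oodd K _ _ _ r hr hpr h hd := H724.VO.row_odd hr h hp5 hpr hd
  oplus K _ _ _ r hr hpr h hd := H829.Van.row hr h hp5 hpr hd
  ominus K _ _ _ r hr hpr h hd := H724.VO.row_minus hr h hp5 hpr hd
  exc K _ _ _ r hr hpr h hd := by
    obtain ⟨F, _, _, _, ⟨h3, ⟨e⟩⟩ | ⟨⟨e⟩⟩ | ⟨⟨e⟩⟩ | he | he⟩ := h
    · exact H473.Van.row_g2 hr h3 e hp5 hpr hd
    · exact H654.Van.F4.row_F4 e hp5 hpr hd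
    · exact H975.VanE.row_E6 hr e hp5 hpr hd
    · exact H86.Van.E7.row ⟨F, inferInstance, inferInstance, inferInstance, he⟩ hp5 hpr hd
    · exact H344.VanE8.row hr he hp5 hpr hd
  tw K _ _ _ r hr hpr h hd := by
    obtain ⟨F, _, _, _, q, hq, ⟨hc, ⟨e⟩⟩ | ⟨hc, ⟨e⟩⟩⟩ := h
    · exact H975.VanE.row_TwE6 hq hc hr e hp5 hpr hd
    · exact H473.Van.row_3d4 hr hq hc e hp5 hpr hd
  twf K _ _ _ h hd := H654.Van.TwF4.row_2F4 h hp5 hd
  tits K _ _ _ h hd := TwoVanSporAll.tits h hp5 hd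
  spor K _ _ _ h hd := TwoVanSporAll.spor h hp5 hd

end Cfsg.Agent.H387.VO.Known
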