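import Cfsg.Agent.H620.PNorm
import Cfsg.Agent.H727.VanOne

/-!
# Groups with one class of `p`-singular vanishing elements: regular orbits (helper387, S4987)

* `vn_of_minimal'` : elements outside a minimal normal `p'`-subgroup;
* `exists_compl` : lifting a `p`-subgroup of `G ⧸ N`, `N` a `p'`-group;
* `van_comap'` : elements over an abelian normal `p`-subgroup of `G ⧸ N` vanish.
-/

set_option autoImplicit false

namespace Cfsg.Agent.H387.VO

open Cfsg Cfsg.Agent.Characters Cfsg.Agent.H690.Van Subgroup Cfsg.Agent.H620.Solv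
  Cfsg.Agent.H620.PN Cfsg.Agent.H620.PNorm

universe u

/-- All the elements outside `N`. -/
theorem vn_of_theta' {G : Type u} [Group G] [Finite G] (N : Subgroup G) [hN : N.Normal]
    (Z : Subgroup G) (hZN : (Z ⊔ N).Normal) {θ : N → ℂ}
    (hθ : IsIrrCharacter N θ)
    (hreg : ∀ z ∈ Z, (∀ n : N, θ (MulAut.conjNormal z n) = θ n) → z = 1) :
    ∀ x ∈ Z ⊔ N, x ∉ N → Vn x := by
  intro x hx hx1
  refine Vn.of_not_inertia N θ hθ x fun g hg => ?_
  have h1 : g * x * g⁻¹ ∈ Z ⊔ N := hZN.conj_mem x hx g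
  rw [← SetLike.mem_coe, Subgroup.mul_normal] at h1
  obtain ⟨y, hy, n, hn, hyn⟩ := h1
  have hyn' : y * n = g * x * g⁻¹ := hyn
  have h2 : y = 1 := by
    apply hreg y hy
    intro a
    have h3 := hg (MulAut.conjNormal n⁻¹ a)
    have h4 : (⟨g * x * g⁻¹ * (MulAut.conjNormal n⁻¹ a : N) * (g * x * g⁻¹)⁻¹,
        hN.conj_mem _ (MulAut.conjNormal n⁻¹ a : N).2 (g * x * g⁻¹)⟩ : N) =
        MulAut.conjNormal y a := by
      apply Subtype.ext
      show g * x * g⁻¹ * (n⁻¹ * a * n⁻¹⁻¹) * (g * x * g⁻¹)⁻¹ = y * a * y⁻¹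
      rw [← hyn']
      group
    rw [h4] at h3
    rw [h3]
    have h5 : MulAut.conjNormal n⁻¹ a = (⟨n, hn⟩ : N)⁻¹ * a * ((⟨n, hn⟩ : N)⁻¹)⁻¹ := by
      apply Subtype.ext
      rfl
    rw [h5]
    exact Core.isIrr_isClassFunction hθ a _
  rw [h2, one_mul] at hyn'
  have h3 : x ∈ N := by
    have := hN.conj_mem _ (hyn' ▸ hn : g * x * g⁻¹ ∈ N) g⁻¹
    simpa [mul_assoc] using this
  exact hx1 h3

/-- In the situation of a minimal normal `p'`-subgroup. -/
theorem vn_of_minimal' (hCC : CCAll.{u}) {G : Type u} [Group G] [Finite G] (N : Subgroup G)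
    [hN : N.Normal] (hmin : ∀ M : Subgroup G, M.Normal → M ≤ N → M = ⊥ ∨ M = N)
    (p : ℕ) [hp : Fact p.Prime] (hpN : ¬ p ∣ Nat.card N)
    (hcore : ∀ K : Subgroup G, K.Normal → IsPGroup p K → K = ⊥)
    (Z : Subgroup G) (hZp : IsPGroup p Z)
    (hZN : (Z ⊔ N).Normal) (hZ : ∀ x ∈ Z, ∀ y ∈ Z, x * y = y * x) :
    ∀ x ∈ Z ⊔ N, x ∉ N → Vn x := by
  have hcop : (Nat.card N).Coprime p := ((Nat.Prime.coprime_iff_not_dvd hp.out).2 hpN).symm
  by_cases hna : ∀ x ∈ N, ∀ y ∈ N, Commute x y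
  · have hC := inf_centralizer N hcop Z hZp hZN (Or.inl fun a ha b hb => hna a ha b hb) hcore
    obtain ⟨θ, hθ, hreg⟩ := exists_theta_ab N (fun a ha b hb => hna a ha b hb) p hpN Z hZ hZp
      (fun z hz h => hC z hz h)
    exact vn_of_theta' N Z hZN hθ hreg
  · have hC := inf_centralizer N hcop Z hZp hZN (Or.inr (inf_centralizer_eq_bot N hmin hna)) hcore
    obtain ⟨θ, hθ, hreg⟩ := exists_theta_na hCC N hmin hna p hpN Z hZ hZp
      (fun z hz h => hC z hz h)
    exact vn_of_theta' N Z hZN hθ hreg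

/-- Lifting a `p`-subgroup of `G ⧸ N`, `N` a `p'`-group. -/
theorem exists_compl {G : Type u} [Group G] [Finite G] {p : ℕ} [hp : Fact p.Prime] (L : Subgroup G)
    [L.Normal] (hrL : ¬ p ∣ Nat.card L) (M : Subgroup (G ⧸ L)) (hMp : IsPGroup p M) :
    ∃ E : Subgroup G, IsPGroup p E ∧ E ⊓ L = ⊥ ∧ E ⊔ L = M.comap (QuotientGroup.mk' L) := by
  let Mt : Subgroup G := M.comap (QuotientGroup.mk' L)
  have hLM : L ≤ Mt := by
    intro x hx
    show ((x : G) : G ⧸ L) ∈ M
    rw [(QuotientGroup.eq_one_iff x).2 hx]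
    exact M.one_mem
  obtain ⟨Q⟩ : Nonempty (Sylow p Mt) := inferInstance
  let E : Subgroup G := (Q : Subgroup Mt).map Mt.subtype
  have hEp : IsPGroup p E := Q.2.map Mt.subtype
  have hEM : E ≤ Mt := Subgroup.map_subtype_le _
  refine ⟨E, hEp, ?_, ?_⟩
  · rw [← disjoint_iff]
    apply disjoint_of_coprime_natCard
    obtain ⟨m, hm⟩ := (IsPGroup.iff_card).1 hEp
    rw [hm]
    exact Nat.Coprime.pow_left m ((Nat.Prime.coprime_iff_not_dvd hp.out).2 hrL)
  · apply le_antisymm (sup_le hEM hLM)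
    have hind : (E ⊔ L).relIndex Mt = 1 := by
      have h1 : (E ⊔ L).relIndex Mt ∣ E.relIndex Mt :=
        Subgroup.relIndex_dvd_of_le_left Mt le_sup_left
      have h2 : (E ⊔ L).relIndex Mt ∣ L.relIndex Mt :=
        Subgroup.relIndex_dvd_of_le_left Mt le_sup_right
      have h3 : ¬ p ∣ E.relIndex Mt := by
        have : E.relIndex Mt = (Q : Subgroup Mt).index := by
          show (E.subgroupOf Mt).index = _
          congr 1
          exact Subgroup.comap_map_eq_self_of_injective Mt.subtype_injective _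
        rw [this]
        exact Q.not_dvd_index
      have h4 : ∃ k, L.relIndex Mt = p ^ k := by
        have h5 : L.relIndex Mt = Nat.card M := by
          have h6 : L = (⊥ : Subgroup (G ⧸ L)).comap (QuotientGroup.mk' L) := by
            rw [MonoidHom.comap_bot, QuotientGroup.ker_mk']
          have h7 := Subgroup.relIndex_comap (⊥ : Subgroup (G ⧸ L)) (QuotientGroup.mk' L) Mt
          rw [← h6] at h7
          rw [h7, Subgroup.map_comap_eq_self_of_surjective
            (QuotientGroup.mk'_surjective L), Subgroup.relIndex_bot_left]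
        rw [h5]
        exact (IsPGroup.iff_card).1 hMp
      obtain ⟨k, hk⟩ := h4
      rw [hk] at h2
      obtain ⟨j, -, hj⟩ := (Nat.dvd_prime_pow hp.out).1 h2
      rw [hj] at h1 ⊢
      by_cases hj0 : j = 0
      · rw [hj0, pow_zero]
      · exact absurd ((dvd_pow_self p hj0).trans h1) h3
    exact Subgroup.relIndex_eq_one.1 hind

/-- `O_p(G) = 1`, `N` a minimal normal `p'`-subgroup, `Y` an abelian normal `p`-subgroup of `G ⧸ N`:
elements over the nontrivial elements of `Y` are vanishing of order divisible by `p`. -/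
theorem van_comap' (hCC : CCAll.{u}) {G : Type u} [Group G] [Finite G] {p : ℕ} [hp : Fact p.Prime]
    (hcore : ∀ K : Subgroup G, K.Normal → IsPGroup p K → K = ⊥)
    (N : Subgroup G) [hN : N.Normal] (hmin : ∀ M : Subgroup G, M.Normal → M ≤ N → M = ⊥ ∨ M = N)
    (hpN : ¬ p ∣ Nat.card N)
    (Y : Subgroup (G ⧸ N)) [hY : Y.Normal] (hYab : ∀ x ∈ Y, ∀ y ∈ Y, x * y = y * x)
    (hYp : IsPGroup p Y) (x : G) (hx : (QuotientGroup.mk x : G ⧸ N) ∈ Y)
    (hx1 : (QuotientGroup.mk x : G ⧸ N) ≠ 1) : Vn x ∧ p ∣ orderOf x := by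
  obtain ⟨E, hEp, hEN, hsup⟩ := exists_compl N hpN Y hYp
  have hxE : x ∈ E ⊔ N := by rw [hsup]; exact hx
  have hxN : x ∉ N := fun h => hx1 ((QuotientGroup.eq_one_iff x).2 h)
  have hEY : ∀ a ∈ E, (QuotientGroup.mk a : G ⧸ N) ∈ Y := by
    intro a ha
    have h1 : a ∈ E ⊔ N := Subgroup.mem_sup_left ha
    rw [hsup] at h1
    exact h1
  have hEc : ∀ a ∈ E, ∀ b ∈ E, a * b = b * a := by
    intro a ha b hb
    have h1 : (a * b) * (b * a)⁻¹ ∈ E ⊓ N := by
      refine Subgroup.mem_inf.2 ⟨E.mul_mem (E.mul_mem ha hb) (E.inv_mem (E.mul_mem hb ha)), ?_⟩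
      rw [← QuotientGroup.eq_one_iff, QuotientGroup.mk_mul, QuotientGroup.mk_inv,
        QuotientGroup.mk_mul, QuotientGroup.mk_mul, mul_inv_eq_one]
      exact hYab _ (hEY a ha) _ (hEY b hb)
    rw [hEN, Subgroup.mem_bot, mul_inv_eq_one] at h1
    exact h1
  refine ⟨vn_of_minimal' hCC N hmin p hpN hcore E hEp (by rw [hsup]; exact hY.comap _) hEc x hxE hxN, ?_⟩
  obtain ⟨m, hm⟩ := (IsPGroup.iff_orderOf.1 hYp) ⟨_, hx⟩
  rw [Subgroup.orderOf_mk] at hm
  have hm0 : m ≠ 0 := by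
    rintro rfl
    rw [pow_zero, orderOf_eq_one_iff] at hm
    exact hx1 hm
  refine (dvd_pow_self p hm0).trans ?_
  rw [← hm]
  exact orderOf_map_dvd (QuotientGroup.mk' N) x

end Cfsg.Agent.H387.VO
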