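import Cfsg.Agent.H387.VO.Base

/-!
# Groups with one class of `p`-singular vanishing elements: minimal normal `p'`-subgroups
(helper387, S4987; after helper727's proof of the solvable case)

* `case_coprime` : `N` a minimal normal `p'`-subgroup, `O_p(G) = 1`, `O_p(G / N) ≠ 1`: `p ^ 2 ∤ |G|`.
-/

set_option autoImplicit false

namespace Cfsg.Agent.H387.VO

open Cfsg Cfsg.Agent.Characters Subgroup Cfsg.Agent.H620.PNorm Cfsg.Agent.H727.VanEl

universe u

/-- The hypothesis: S4555. -/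
def NormSyl (p : ℕ) : Prop := ∀ (H : Type u) [Group H] [Finite H], NoVan p H →
  ∀ P : Sylow p H, (P : Subgroup H).Normal

theorem NormSyl.not_dvd {p : ℕ} [hp : Fact p.Prime] (h : NormSyl.{u} p) (H : Type u) [Group H] [Finite H]
    (h0 : NoVan p H) (hO : pCore p H = ⊥) : ¬ p ∣ Nat.card H := by
  intro hd
  obtain ⟨P⟩ : Nonempty (Sylow p H) := inferInstance
  have h1 := Cfsg.Agent.Lib.Cores.le_pCore (h H h0 P) P.isPGroup'
  rw [hO, le_bot_iff] at h1
  have h3 := P.dvd_card_of_dvd_card hd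
  rw [h1, Subgroup.card_bot] at h3
  exact hp.out.one_lt.ne' (Nat.dvd_one.1 h3)

/-- **The case of a minimal normal `p'`-subgroup.** -/
theorem case_coprime (hCC : CCAll.{u}) {p : ℕ} [hp : Fact p.Prime] (hns : NormSyl.{u} p)
    {G : Type u} [Group G] [Finite G] (hO : pCore p G = ⊥) (h0 : OneVan p G)
    (N : Subgroup G) [hNn : N.Normal] (hNbot : N ≠ ⊥)
    (hmin : ∀ M : Subgroup G, M.Normal → M ≤ N → M = ⊥ ∨ M = N) (hNp : ¬ p ∣ Nat.card N)
    (hQ : pCore p (G ⧸ N) ≠ ⊥) : ¬ p ^ 2 ∣ Nat.card (G ⧸ N) := by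
  have hcore : ∀ K : Subgroup G, K.Normal → IsPGroup p K → K = ⊥ := by
    intro K hK hKp
    rw [eq_bot_iff, ← hO]
    exact Cfsg.Agent.Lib.Cores.le_pCore hK hKp
  -- the centre of `O_p(G / N)`
  set Q := pCore p (G ⧸ N) with hQdef
  have hQn : Q.Normal := Cfsg.Agent.Lib.Cores.pCore_normal p
  have hQp : IsPGroup p Q := Cfsg.Agent.Lib.Cores.pCore_isPGroup (G := G ⧸ N) p
  have hnt : Nontrivial Q := (Subgroup.nontrivial_iff_ne_bot _).2 hQ
  -- normal abelian subgroups inside `Q` consist of vanishing elements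
  have hvan : ∀ Y : Subgroup (G ⧸ N), Y.Normal → (∀ x ∈ Y, ∀ y ∈ Y, x * y = y * x) → Y ≤ Q →
      ∀ x : G, (QuotientGroup.mk x : G ⧸ N) ∈ Y → (QuotientGroup.mk x : G ⧸ N) ≠ 1 →
      Van x ∧ p ∣ orderOf x := by
    intro Y hY hYab hYQ x hx hx1
    exact van_comap' hCC hcore N hmin hNp Y hYab (hQp.to_le hYQ) x hx hx1
  let Z : Subgroup (G ⧸ N) := (Subgroup.center Q).map Q.subtype
  have hZn : Z.Normal := inferInstance
  have hZQ : Z ≤ Q := by
    rintro _ ⟨a, _, rfl⟩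
    exact a.2
  have hZab : ∀ x ∈ Z, ∀ y ∈ Z, x * y = y * x := by
    rintro _ ⟨a, ha, rfl⟩ _ ⟨b, hb, rfl⟩
    exact congrArg Subtype.val (Subgroup.mem_center_iff.1 hb a)
  have hZp : IsPGroup p Z := hQp.to_le hZQ
  have hZ1 : Z ≠ ⊥ := by
    have hct : Nontrivial (Subgroup.center Q) := hQp.center_nontrivial
    intro h
    have h2 := (Subgroup.map_eq_bot_iff_of_injective _ Q.subtype_injective).1 h
    exact (Subgroup.nontrivial_iff_ne_bot _).1 hct h2
  have hZcard : Nat.card Z = p :=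
    card_eq_of_conj N hNbot hNp Z hZab hZp hZ1 fun x y hx hx1 hy hy1 =>
      h0 x y (hvan Z hZn hZab hZQ x hx hx1).1 (hvan Z hZn hZab hZQ x hx hx1).2
        (hvan Z hZn hZab hZQ y hy hy1).1 (hvan Z hZn hZab hZQ y hy hy1).2
  obtain ⟨z0, hz0, hz01⟩ : ∃ z : G ⧸ N, z ∈ Z ∧ z ≠ 1 := by
    obtain ⟨a, ha⟩ := Subgroup.ne_bot_iff_exists_ne_one.1 hZ1
    exact ⟨a, a.2, fun h => ha (Subtype.ext h)⟩
  obtain ⟨z, rfl⟩ := QuotientGroup.mk_surjective z0
  have hzv := hvan Z hZn hZab hZQ z hz0 hz01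
  -- all `p`-singular vanishing elements lie over `Z`
  have hin : ∀ x : G, Van x → p ∣ orderOf x → (QuotientGroup.mk x : G ⧸ N) ∈ Z := by
    intro x hx hxp
    obtain ⟨c, hc⟩ := isConj_iff.1 (h0 z x hzv.1 hzv.2 hx hxp)
    rw [← hc]
    simp only [QuotientGroup.mk_mul, QuotientGroup.mk_inv]
    exact hZn.conj_mem _ hz0 _
  -- uniqueness
  have huniq : ∀ Y : Subgroup (G ⧸ N), Y.Normal → (∀ x ∈ Y, ∀ y ∈ Y, x * y = y * x) → Y ≤ Q →
      Y ≤ Z := by
    intro Y hY hYab hYQ y hy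
    by_cases hy1 : y = 1
    · rw [hy1]; exact Z.one_mem
    obtain ⟨y, rfl⟩ := QuotientGroup.mk_surjective y
    have h2 := hvan Y hY hYab hYQ y hy hy1
    exact hin y h2.1 h2.2
  -- `Q = Z`
  have hQZ : Q = Z := by
    by_contra hne
    -- the centre of `Q / Z(Q)`
    have hcne : Subgroup.center Q ≠ ⊤ := by
      intro h
      apply hne
      apply le_antisymm _ hZQ
      intro q hq
      exact ⟨⟨q, hq⟩, by rw [h]; exact Subgroup.mem_top _, rfl⟩
    have hnt2 : Nontrivial (Q ⧸ Subgroup.center Q) := QuotientGroup.nontrivial_iff.2 hcne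
    have hqp2 : IsPGroup p (Q ⧸ Subgroup.center Q) := hQp.to_quotient _
    have hct2 : Nontrivial (Subgroup.center (Q ⧸ Subgroup.center Q)) := hqp2.center_nontrivial
    obtain ⟨⟨x, hxc⟩, hx1⟩ := exists_ne (1 : Subgroup.center (Q ⧸ Subgroup.center Q))
    obtain ⟨x, rfl⟩ := QuotientGroup.mk_surjective x
    have hxnc : x ∉ Subgroup.center Q := by
      intro h
      apply hx1
      exact Subtype.ext ((QuotientGroup.eq_one_iff x).2 h)
    let B0 : Subgroup Q := Subgroup.upperCentralSeries Q 2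
    have hB0n : B0.Characteristic := inferInstance
    have hB0 : ∀ b : Q, b ∈ B0 ↔ ∀ y : Q, b * y * b⁻¹ * y⁻¹ ∈ Subgroup.center Q := by
      intro b
      change b ∈ Subgroup.upperCentralSeries Q (1 + 1) ↔ _
      rw [Subgroup.mem_upperCentralSeries_succ_iff]
      rw [Subgroup.upperCentralSeries_one]
      rfl
    have hxB0 : x ∈ B0 := by
      rw [hB0]
      intro y
      rw [← QuotientGroup.eq_one_iff]
      simp only [QuotientGroup.mk_mul, QuotientGroup.mk_inv]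
      have h2 := Subgroup.mem_center_iff.1 hxc (QuotientGroup.mk y)
      rw [← h2]
      group
    let B : Subgroup (G ⧸ N) := B0.map Q.subtype
    have hBn : B.Normal := inferInstance
    have hBQ : B ≤ Q := by
      rintro _ ⟨a, _, rfl⟩
      exact a.2
    have hxB : (x : G ⧸ N) ∈ B := ⟨x, hxB0, rfl⟩
    -- the centre of `B`
    let C : Subgroup (G ⧸ N) := (Subgroup.center B).map B.subtype
    have hCn : C.Normal := inferInstance
    have hCQ : C ≤ Q := by
      rintro _ ⟨a, _, rfl⟩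
      exact hBQ a.2
    have hCab : ∀ x ∈ C, ∀ y ∈ C, x * y = y * x := by
      rintro _ ⟨a, ha, rfl⟩ _ ⟨b, hb, rfl⟩
      exact congrArg Subtype.val (Subgroup.mem_center_iff.1 hb a)
    have hCZ := huniq C hCn hCab hCQ
    have hxZ : (x : G ⧸ N) ∉ Z := by
      rintro ⟨a, ha, hax⟩
      apply hxnc
      have : a = x := Subtype.ext hax
      rw [← this]
      exact ha
    have hxC : (⟨(x : G ⧸ N), hxB⟩ : B) ∉ Subgroup.center B := fun h =>
      hxZ (hCZ ⟨_, h, rfl⟩)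
    obtain ⟨y, hy⟩ : ∃ y : B, ¬ (y * ⟨(x : G ⧸ N), hxB⟩ = ⟨(x : G ⧸ N), hxB⟩ * y) := by
      by_contra hcon
      push Not at hcon
      exact hxC (Subgroup.mem_center_iff.2 hcon)
    have hvx : Van (x : G ⧸ N) := by
      refine van_extraspecial Z B hZcard ?_ ?_ (x : G ⧸ N) (y : G ⧸ N) hxB y.2 ?_
      · rintro _ ⟨a, ha, rfl⟩ b hb
        exact (congrArg Subtype.val (Subgroup.mem_center_iff.1 ha ⟨b, hBQ hb⟩)).symm
      · rintro _ ⟨a, ha, rfl⟩ _ ⟨b, hb, rfl⟩
        refine ⟨a * b * a⁻¹ * b⁻¹, (hB0 a).1 ha b, ?_⟩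
        simp
      · intro h
        apply hy
        exact Subtype.ext h.symm
    obtain ⟨w, hw⟩ := QuotientGroup.mk_surjective (x : G ⧸ N)
    rw [← hw] at hvx hxZ
    apply hxZ
    refine hin w (van_of_mk hvx) ?_
    have hwp : p ∣ orderOf (QuotientGroup.mk w : G ⧸ N) := by
      rw [hw, Subgroup.orderOf_coe]
      obtain ⟨j, hj⟩ := IsPGroup.iff_orderOf.1 hQp x
      rw [hj]
      refine dvd_pow_self p ?_
      rintro rfl
      rw [pow_zero, orderOf_eq_one_iff] at hj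
      exact hxnc (by rw [hj]; exact Subgroup.one_mem _)
    exact hwp.trans (orderOf_map_dvd (QuotientGroup.mk' N) w)
  have hQcard : Nat.card Q = p := by rw [hQZ]; exact hZcard
  -- no vanishing `p`-singular elements modulo `Q`
  have hno : NoVan p ((G ⧸ N) ⧸ Q) := by
    intro x hx hxp
    obtain ⟨x, rfl⟩ := QuotientGroup.mk_surjective x
    obtain ⟨x, rfl⟩ := QuotientGroup.mk_surjective x
    have h2 := hin x (van_of_mk (van_of_mk hx))
      ((hxp.trans (orderOf_map_dvd (QuotientGroup.mk' Q) _)).trans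
        (orderOf_map_dvd (QuotientGroup.mk' N) x))
    rw [← hQZ] at h2
    rw [(QuotientGroup.eq_one_iff (N := Q) _).2 h2, orderOf_one] at hxp
    exact hp.out.one_lt.ne' (Nat.dvd_one.1 hxp)
  have h4 : pCore p ((G ⧸ N) ⧸ Q) = ⊥ := Cfsg.Agent.Lib.Cores.pCore_quotient_pCore p
  have h3 := hns.not_dvd ((G ⧸ N) ⧸ Q) hno h4
  rw [← Subgroup.index_eq_card] at h3
  rw [← Q.index_mul_card, hQcard, pow_two]
  intro h
  exact h3 (Nat.dvd_of_mul_dvd_mul_right hp.out.pos h)

end Cfsg.Agent.H387.VO
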