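import Cfsg.Agent.H387.VO.Main

/-!
# S4987 from the rows (helper387)
-/

set_option autoImplicit false

namespace Cfsg.Agent.H387.VO

open Cfsg Cfsg.Agent.Characters Subgroup Cfsg.Agent.H620.PNorm Cfsg.Agent.H727.VanEl

universe u

/-- The `p`-singular version of S4555 from the rows `VSing` (helper620). -/
theorem normSyl_of_rows (hCC : CCAll.{u}) {p : ℕ} [hp : Fact p.Prime]
    (hpow : ∀ (S : Type u) [Group S] [Finite S] [IsSimpleGroup S], (∃ a b : S, a * b ≠ b * a) →
      p ∣ Nat.card S → VSing p S) : NormSyl.{u} p := by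
  intro H _ _ h0 P
  exact normal_sylow_of_sing hCC hpow _ H rfl (fun g hg hv => h0 g hv hg) P

/-- The index of `O_p(G)` in a Sylow subgroup. -/
theorem sylow_card {G : Type u} [Group G] [Finite G] {p : ℕ} [hp : Fact p.Prime]
    (h2 : ¬ p ^ 2 ∣ (pCore p G).index) (P : Sylow p G) :
    Nat.card (P : Subgroup G) ≤ p * Nat.card (pCore p G) := by
  have hle : Cfsg.pCore p G ≤ (P : Subgroup G) := Cfsg.Agent.Lib.Cores.pCore_le_sylow P
  have hcard : (Cfsg.pCore p G).relIndex (P : Subgroup G) * Nat.card ↥(Cfsg.pCore p G) =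
      Nat.card ↥(P : Subgroup G) := by
    have h3 := Subgroup.relIndex_mul_relIndex ⊥ (Cfsg.pCore p G) (P : Subgroup G) bot_le hle
    rw [Subgroup.relIndex_bot_left, Subgroup.relIndex_bot_left, mul_comm] at h3
    exact h3
  rw [← hcard]
  refine Nat.mul_le_mul_right _ ?_
  have hdvd : (Cfsg.pCore p G).relIndex (P : Subgroup G) ∣ (Cfsg.pCore p G).index :=
    Subgroup.relIndex_dvd_index_of_le hle
  obtain ⟨k, hk⟩ := IsPGroup.iff_card.1 P.isPGroup'
  have hdvd2 : (Cfsg.pCore p G).relIndex (P : Subgroup G) ∣ p ^ k := by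
    rw [← hk, ← hcard]
    exact Dvd.intro _ rfl
  obtain ⟨j, -, hj⟩ := (Nat.dvd_prime_pow (Fact.out : p.Prime)).1 hdvd2
  rw [hj] at hdvd ⊢
  have hj2 : j < 2 := by
    by_contra hcon
    exact h2 ((pow_dvd_pow p (not_lt.1 hcon)).trans hdvd)
  calc p ^ j ≤ p ^ 1 := Nat.pow_le_pow_right (Fact.out : p.Prime).pos (by omega)
    _ = p := pow_one p

/-- The commutators of a Sylow subgroup are in `O_p(G)`. -/
theorem Claim.comm {G : Type u} [Group G] [Finite G] {p : ℕ} [hp : Fact p.Prime] (h : Claim p G)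
    (P : Sylow p G) : ∀ a ∈ (P : Subgroup G), ∀ b ∈ (P : Subgroup G), a * b * a⁻¹ * b⁻¹ ∈ pCore p G := by
  rcases h with h | h
  swap
  · exact h.2 P
  have hNn : (pCore p G).Normal := Cfsg.Agent.Lib.Cores.pCore_normal p
  set R := (P : Subgroup G).map (QuotientGroup.mk' (pCore p G)) with hR
  have hRp : IsPGroup p R := P.isPGroup'.map _
  have hRcard : Nat.card R ∣ p := by
    obtain ⟨k, hk⟩ := IsPGroup.iff_card.1 hRp
    have h1 : p ^ k ∣ Nat.card (G ⧸ pCore p G) := hk ▸ R.card_subgroup_dvd_card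
    have h2 : k < 2 := by
      by_contra h'
      apply h
      rw [Subgroup.index_eq_card]
      exact (pow_dvd_pow p (not_lt.1 h')).trans h1
    rw [hk]
    calc p ^ k ∣ p ^ 1 := pow_dvd_pow p (by omega)
      _ = p := pow_one p
  have hcyc : IsCyclic R := by
    rcases (Nat.dvd_prime hp.out).1 hRcard with h | h
    · have : Subsingleton R := (Nat.card_eq_one_iff_unique.1 h).1
      infer_instance
    · exact isCyclic_of_prime_card h
  intro a ha b hb
  have hc : IsMulCommutative R := inferInstance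
  rw [← QuotientGroup.eq_one_iff]
  have h1 := congrArg (Subtype.val : R → _) (hc.is_comm.comm ⟨QuotientGroup.mk' (pCore p G) a, a, ha, rfl⟩
    ⟨QuotientGroup.mk' (pCore p G) b, b, hb, rfl⟩)
  have h2 : (QuotientGroup.mk a : G ⧸ pCore p G) * QuotientGroup.mk b = QuotientGroup.mk b * QuotientGroup.mk a := h1
  simp only [QuotientGroup.mk_mul, QuotientGroup.mk_inv]
  rw [h2]
  group

/-- **S4987 from the claim.** -/
theorem of_claim {G : Type u} [Group G] [Finite G] {p : ℕ} [hp : Fact p.Prime] (h : Claim p G)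
    (P : Sylow p G) :
    ((commutator ↥(P : Subgroup G)).map (P : Subgroup G).subtype).IsSubnormal ∧
    ((¬ ∃ (H : Subgroup G) (K : Subgroup ↥H) (_ : K.Normal), H.IsSubnormal ∧ ∃ f : ℕ, 2 ≤ f ∧
      Nonempty (↥H ⧸ K ≃* Matrix.ProjectiveSpecialLinearGroup (Fin 2) (GaloisField p f))) →
      Nat.card ↥(P : Subgroup G) ≤ p * Nat.card ↥(Cfsg.pCore p G)) := by
  refine ⟨?_, fun hno => ?_⟩
  swap
  · rcases h with h | ⟨h, -⟩
    · exact sylow_card h P
    · exact absurd h hno
  have hNn : (pCore p G).Normal := Cfsg.Agent.Lib.Cores.pCore_normal p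
  set D := (commutator ↥(P : Subgroup G)).map (P : Subgroup G).subtype with hD
  have hDle : D ≤ pCore p G := by
    have h1 : commutator ↥(P : Subgroup G) ≤
        ((QuotientGroup.mk' (pCore p G)).comp (P : Subgroup G).subtype).ker := by
      rw [commutator_def, Subgroup.commutator_le]
      intro x _ y _
      rw [MonoidHom.mem_ker, MonoidHom.comp_apply, QuotientGroup.mk'_apply, QuotientGroup.eq_one_iff]
      exact h.comm P x x.2 y y.2
    rintro _ ⟨x, hx, rfl⟩
    have h2 := h1 hx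
    rw [MonoidHom.mem_ker, MonoidHom.comp_apply, QuotientGroup.mk'_apply,
      QuotientGroup.eq_one_iff] at h2
    exact h2
  -- `O_p(G) ≤ P` normalizes `P'`
  have hOP : pCore p G ≤ (P : Subgroup G) :=
    (Cfsg.Agent.Lib.Cores.pCore_isPGroup (G := G) p).le_sylow_of_normal P
  refine Subgroup.IsSubnormal.step D (pCore p G) hDle hNn.isSubnormal ?_
  refine ⟨?_⟩
  rintro ⟨d, hd⟩ hdD ⟨g, hg⟩
  rw [Subgroup.mem_subgroupOf] at hdD ⊢
  obtain ⟨x, hx, hxd⟩ := hdD
  refine ⟨⟨g, hOP hg⟩ * x * ⟨g, hOP hg⟩⁻¹,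
    (inferInstance : (commutator ↥(P : Subgroup G)).Normal).conj_mem x hx _, ?_⟩
  have hxd' : (x : G) = d := hxd
  simp [hxd']

/-- **S4987 from the rows.** -/
theorem of_rows (hCC : CCAll.{u}) {p : ℕ} [hp : Fact p.Prime]
    (hpow : ∀ (S : Type u) [Group S] [Finite S] [IsSimpleGroup S], (∃ a b : S, a * b ≠ b * a) →
      p ∣ Nat.card S → VSing p S)
    (hrow : ∀ (S : Type u) [Group S] [Finite S] [IsSimpleGroup S], (∃ a b : S, a * b ≠ b * a) →
      p ∣ Nat.card S → Row p S)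
    (hpsl : PslHyp.{u} p) (hgr : Gross.{u} p) {G : Type u} [Group G] [Finite G] (h0 : OneVan p G)
    (P : Sylow p G) :
    ((commutator ↥(P : Subgroup G)).map (P : Subgroup G).subtype).IsSubnormal ∧
    ((¬ ∃ (H : Subgroup G) (K : Subgroup ↥H) (_ : K.Normal), H.IsSubnormal ∧ ∃ f : ℕ, 2 ≤ f ∧
      Nonempty (↥H ⧸ K ≃* Matrix.ProjectiveSpecialLinearGroup (Fin 2) (GaloisField p f))) →
      Nat.card ↥(P : Subgroup G) ≤ p * Nat.card ↥(Cfsg.pCore p G)) :=
  of_claim (main hCC (normSyl_of_rows hCC hpow) hpow hrow hpsl hgr _ G rfl h0) P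

end Cfsg.Agent.H387.VO
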