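import Cfsg.Agent.H387.VO.Main
import Cfsg.Agent.H620.Kill
import Cfsg.Agent.H690.LieRow
import Cfsg.Agent.H163.Steinberg
import Cfsg.Agent.OddHalf.LongSL.Mat
import Cfsg.Agent.OddHalf.LongSL.Orth
import Cfsg.Agent.OddHalf.LongSL.Tw
import Cfsg.Agent.OddHalf.LongSL.Exc
import Cfsg.Agent.ClassicalGeometry.AutPSL.SylowU
import Cfsg.Agent.LieClassical.FieldTransfer

/-!
# The groups of Lie type in their own characteristic (helper387, S4987)
-/

set_option autoImplicit false

namespace Cfsg.Agent.H387.VO.Own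

open Cfsg Cfsg.Agent.OddHalf.LongSL Cfsg.Agent.H620

/-- The Steinberg character. -/
theorem kill_of_lie {K : Type*} [Group K] [Finite K] [IsSimpleGroup K] {p : ℕ} (hp : p.Prime)
    (h : IsLieTypeChar p K) : Kill K p := by
  have : Fact p.Prime := ⟨hp⟩
  obtain ⟨χ, hχ, h1⟩ := Cfsg.Agent.H163.Steinberg.exists_irr_of_hasSplit (H690.LieRow.hasSplit hp h)
  have P : Sylow p K := default
  refine kill_of_dvd p hχ (Nat.card P) (h1 P).1 ?_
  rw [P.card_eq_multiplicity]

/-- Two `p`-singular elements of different orders, when all the `p`-singular elements are zeros. -/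
theorem twoVan_of_kill {S : Type*} [Group S] {p : ℕ} (h : Kill S p) {x y : S} (hx : p ∣ orderOf x)
    (hy : p ∣ orderOf y) (hne : orderOf x ≠ orderOf y) : TwoVan p S :=
  TwoVan.of_order hx hy (h.vz hx) (h.vz hy) hne

theorem exists_order_sl {F : Type*} [Field F] {p : ℕ} [hp : Fact p.Prime] [CharP F p] :
    ∃ u : Matrix.SpecialLinearGroup (Fin 2) F, orderOf u = p := by
  let u : F → Matrix.SpecialLinearGroup (Fin 2) F := fun t => ⟨!![1, t; 0, 1], by simp⟩
  have hmul : ∀ s t, u s * u t = u (s + t) := by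
    intro s t
    apply Subtype.ext
    show !![1, s; 0, 1] * !![1, t; 0, 1] = !![1, s + t; 0, 1]
    rw [Matrix.mul_fin_two]
    simp [add_comm]
  have hpow : ∀ n : ℕ, u 1 ^ n = u n := by
    intro n
    induction n with
    | zero =>
      rw [pow_zero, Nat.cast_zero]
      apply Subtype.ext
      show (1 : Matrix (Fin 2) (Fin 2) F) = !![1, 0; 0, 1]
      exact Matrix.one_fin_two
    | succ n ih => rw [pow_succ, ih, hmul, Nat.cast_succ]
  refine ⟨u 1, orderOf_eq_prime ?_ ?_⟩
  · rw [hpow, CharP.cast_eq_zero, ← Nat.cast_zero (R := F), ← hpow, pow_zero]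
  · intro h
    have h1 := congrArg (fun g : Matrix.SpecialLinearGroup (Fin 2) F => (g : Matrix (Fin 2) (Fin 2) F) 0 1) h
    exact one_ne_zero (h1 : (1 : F) = 0)

/-- Elements of order `p` and `2p`. -/
theorem exists_orders {S : Type*} [Group S] {p q : ℕ} (hp : p.Prime) (hp2 : p ≠ 2) (hq : p ∣ q)
    (h : HasLong q S) : ∃ x y : S, orderOf x = p ∧ orderOf y = p * 2 := by
  obtain ⟨j, J, hj, hjJ, hJ, -, F, _, _, hF, -, ⟨e⟩⟩ := h
  have : Fact p.Prime := ⟨hp⟩
  obtain ⟨r, hr⟩ := CharP.exists F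
  have : CharP F r := hr
  obtain ⟨n, hrp, hn⟩ := FiniteField.card F r
  have hpr : p = r := (Nat.prime_dvd_prime_iff_eq hp hrp).1
    (hp.dvd_of_dvd_pow (by rw [← hn, hF]; exact hq))
  subst hpr
  obtain ⟨u, hu⟩ := exists_order_sl (F := F) (p := p)
  have hx : orderOf ((e.symm u : J) : S) = p := by
    rw [Subgroup.orderOf_coe, MulEquiv.orderOf_eq, hu]
  refine ⟨(e.symm u : J), (e.symm u : J) * j, hx, ?_⟩
  have hc : Commute ((e.symm u : J) : S) j := by
    have h1 := Subgroup.mem_centralizer_iff.1 (hJ (e.symm u).2) j rfl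
    exact h1.symm
  rw [hc.orderOf_mul_eq_mul_orderOf_of_coprime, hx, hj]
  rw [hx, hj]
  exact (Nat.coprime_primes hp Nat.prime_two).2 hp2

theorem dvd_card {F : Type*} [Field F] [Fintype F] {p : ℕ} (hp : p.Prime) [CharP F p] :
    p ∣ Fintype.card F := by
  obtain ⟨n, -, hn⟩ := FiniteField.card F p
  rw [hn]
  exact dvd_pow_self p n.pos.ne'

/-- **Own characteristic.** -/
theorem row_own {S : Type*} [Group S] [Finite S] [IsSimpleGroup S] {p : ℕ} [hp : Fact p.Prime]
    (hp5 : 5 ≤ p) (h : IsLieTypeChar p S) : Row p S := by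
  have hkill := kill_of_lie hp.out h
  have hlong : ∀ q : ℕ, p ∣ q → HasLong q S → Row p S := by
    intro q hq hl
    obtain ⟨x, y, hx, hy⟩ := exists_orders hp.out (by omega) hq hl
    refine Or.inr (Or.inr (twoVan_of_kill hkill (x := x) (y := y) (by rw [hx])
      (by rw [hy]; exact dvd_mul_right p 2) ?_))
    rw [hx, hy]
    omega
  have hodd : Odd p := hp.out.odd_of_ne_two (by omega)
  rcases h with h | h | h | h | h | h | h | h | h | h | h
  · obtain ⟨F, _, _, _, n, hn, -, ⟨e⟩⟩ := h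
    have ho : Odd (Fintype.card F) := by
      obtain ⟨k, -, hk⟩ := FiniteField.card F p
      rw [hk]
      exact hodd.pow
    rcases Nat.lt_or_ge n 3 with h3 | h3
    · obtain rfl : n = 2 := by omega
      obtain ⟨k, -, hk⟩ := FiniteField.card F p
      let _ : Algebra (ZMod p) F := ZMod.algebra F p
      have h1 : Nat.card F = p ^ (k : ℕ) := by rw [Nat.card_eq_fintype_card, hk]
      have i : F ≃+* GaloisField p k := (GaloisField.algEquivGaloisField p k h1).toRingEquiv
      rcases Nat.lt_or_ge (k : ℕ) 2 with h2 | h2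
      · left
        have hk1 : (k : ℕ) = 1 := by have := k.pos; omega
        obtain ⟨P, hP⟩ := Cfsg.Agent.ClassicalGeometry.AutPSL.SylowU.exists_sylow (F := F) 2 p
        have h4 := Cfsg.Agent.ClassicalGeometry.AutPSL.SylowU.card_map_upper (F := F) 2
        have h5 : Nat.card (P : Subgroup (Matrix.ProjectiveSpecialLinearGroup (Fin 2) F)) = p ^ 1 := by
          rw [hP, h4, hk, hk1]
          norm_num
        rw [P.card_eq_multiplicity] at h5
        have h6 := Nat.pow_right_injective hp.out.two_le h5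
        rw [Nat.card_congr e.toEquiv]
        exact h6
      · right; left
        exact ⟨k, h2, ⟨e.trans (Cfsg.Agent.LieClassical.FieldTransfer.pslCongr i)⟩⟩
    · exact hlong _ (dvd_card hp.out) ((Mat.hasLong_psl ho h3).of_equiv e.symm)
  · obtain ⟨F, _, _, _, m, hm, -, ⟨e⟩⟩ := h
    have ho : Odd (Fintype.card F) := by
      obtain ⟨k, -, hk⟩ := FiniteField.card F p
      rw [hk]
      exact hodd.pow
    exact hlong _ (dvd_card hp.out) ((Mat.hasLong_psp ho hm).of_equiv e.symm)
  · obtain ⟨F, _, _, _, n, q, hF, hn, -, ⟨e⟩⟩ := h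
    have ho : Odd q := by
      obtain ⟨k, -, hk⟩ := FiniteField.card F p
      have h1 : Odd (q ^ 2) := by
        rw [← hF, hk]
        exact hodd.pow
      exact (Nat.odd_pow_iff two_ne_zero).1 h1
    have hpq : p ∣ q := hp.out.dvd_of_dvd_pow (hF ▸ dvd_card (F := F) hp.out)
    exact hlong _ hpq ((Mat.hasLong_psu hF ho hn).of_equiv e.symm)
  · obtain ⟨F, _, _, _, hl⟩ := Orth.hasLong_of_isPOmegaOddChar hodd h
    exact hlong _ (dvd_card hp.out) hl
  · obtain ⟨F, _, _, _, hl⟩ := Orth.hasLong_of_isPOmegaPlusChar hodd h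
    exact hlong _ (dvd_card hp.out) hl
  · obtain ⟨F, _, _, _, hl⟩ := Orth.hasLong_of_isPOmegaMinusChar hodd h
    exact hlong _ (dvd_card hp.out) hl
  · obtain ⟨F, _, _, _, hl⟩ := Chev.hasLong_of_exceptional (by omega) h
    exact hlong _ (dvd_card hp.out) hl
  · obtain ⟨F, _, _, _, hl⟩ := Tw.hasLong_of_twisted (by omega) h
    exact hlong _ (dvd_card hp.out) hl
  · omega
  · omega
  · omega

end Cfsg.Agent.H387.VO.Own
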