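import Cfsg.Agent.H387.VO.Main
import Cfsg.Agent.Characters.GaloisIrr
import Cfsg.Agent.ClassicalGeometry.AutPSL.Main
import Cfsg.Agent.ClassicalGeometry.AutPSL.SylowU

/-!
# The case of `PSL₂(p^f)` (helper387, S4987)
-/

set_option autoImplicit false

namespace Cfsg.Agent.H387.VO.Psl

open Cfsg Cfsg.Agent.Characters Subgroup Cfsg.Agent.H690.Van Matrix
open Cfsg.Agent.ClassicalGeometry.AutPSL.Root
open Cfsg.Agent.ClassicalGeometry.AutPSL.Auto
open Cfsg.Agent.ClassicalGeometry.AutPSL.Main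
open Cfsg.Agent.ClassicalGeometry.AutPSL.SylowU

universe u

section field

variable {F : Type*} [Field F]

theorem ringAut_comm [Finite F] (σ τ : F ≃+* F) : σ * τ = τ * σ := by
  obtain ⟨p, hp⟩ := CharP.exists F
  have hprime : Fact p.Prime := ⟨CharP.char_is_prime F p⟩
  let _ : Algebra (ZMod p) F := ZMod.algebra F p
  have hcyc : IsCyclic (F ≃ₐ[ZMod p] F) := inferInstance
  have key : ∀ σ : F ≃+* F, ∃ s : F ≃ₐ[ZMod p] F, ∀ x, s x = σ x := by
    intro σ
    refine ⟨AlgEquiv.ofRingEquiv (f := σ) ?_, fun x => rfl⟩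
    intro x
    have h1 : (σ : F →+* F).comp (algebraMap (ZMod p) F) = algebraMap (ZMod p) F :=
      Subsingleton.elim _ _
    exact RingHom.congr_fun h1 x
  obtain ⟨s, hs⟩ := key σ
  obtain ⟨t, ht⟩ := key τ
  have hc : s * t = t * s := by
    let _ : CommGroup (F ≃ₐ[ZMod p] F) := IsCyclic.commGroup
    exact mul_comm s t
  apply RingEquiv.ext
  intro x
  have h2 := DFunLike.congr_fun hc x
  rw [AlgEquiv.mul_apply, AlgEquiv.mul_apply, ht, hs, hs, ht] at h2
  exact h2

/-- A field automorphism applied to an invertible matrix. -/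
def gmap (σ : F ≃+* F) : GL (Fin 2) F →* GL (Fin 2) F :=
  Matrix.GeneralLinearGroup.map (σ : F →+* F)

theorem fld_mul_cj (σ : F ≃+* F) (A : GL (Fin 2) F) : fld σ * cj A = cj (gmap σ A) * fld σ := by
  apply MulEquiv.ext
  intro g
  apply Subtype.ext
  rw [MulAut.mul_apply, MulAut.mul_apply, coe_cj]
  have h1 : ∀ x : SpecialLinearGroup (Fin 2) F, (fld σ x : Matrix (Fin 2) (Fin 2) F)
      = (x : Matrix (Fin 2) (Fin 2) F).map σ := fun x => rfl
  rw [h1, h1, coe_cj]
  have h2 : ((gmap σ A : GL (Fin 2) F) : Matrix (Fin 2) (Fin 2) F) =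
    (A : Matrix (Fin 2) (Fin 2) F).map σ := rfl
  have h3 : (((gmap σ A)⁻¹ : GL (Fin 2) F) : Matrix (Fin 2) (Fin 2) F) =
    ((A⁻¹ : GL (Fin 2) F) : Matrix (Fin 2) (Fin 2) F).map σ := by
    rw [← map_inv]; rfl
  rw [h2, h3, Matrix.map_mul, Matrix.map_mul]

theorem lift_eq {A B : GL (Fin 2) F} {σ τ : F ≃+* F} (h : lift (cj A * fld σ) = lift (cj B * fld τ)) :
    (∃ r : F, scalar (Fin 2) r = ((B⁻¹ * A : GL (Fin 2) F) : Matrix (Fin 2) (Fin 2) F)) ∧ σ = τ := by
  have h1 : lift (cj (B⁻¹ * A) * fld σ) = lift (fld τ) := by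
    rw [map_mul cj, map_inv, mul_assoc, map_mul, h, ← map_mul, ← mul_assoc, inv_mul_cancel,
      one_mul]
  exact injective_aux h1

/-- Conjugation by a matrix with square determinant is inner. -/
theorem lift_cj_inner {A : GL (Fin 2) F} (h : IsSquare (A : Matrix (Fin 2) (Fin 2) F).det) :
    ∃ g : SpecialLinearGroup (Fin 2) F, lift (cj A) = MulAut.conj (pr g) := by
  obtain ⟨d, hd⟩ := h
  have hA : (A : Matrix (Fin 2) (Fin 2) F).det ≠ 0 := by
    have := (Matrix.isUnit_iff_isUnit_det _).1 A.isUnit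
    exact this.ne_zero
  have hd0 : d ≠ 0 := by
    rintro rfl
    exact hA (by rw [hd, mul_zero])
  let g : SpecialLinearGroup (Fin 2) F := ⟨d⁻¹ • (A : Matrix (Fin 2) (Fin 2) F), by
    rw [Matrix.det_smul, hd, Fintype.card_fin]
    field_simp⟩
  refine ⟨g, ?_⟩
  apply MulEquiv.ext
  intro x
  obtain ⟨x, rfl⟩ := pr_surjective x
  rw [lift_pr, MulAut.conj_apply, ← map_inv, ← map_mul, ← map_mul]
  congr 1
  have h1 : cj A x * g = g * x := by
    apply Subtype.ext
    show (cj A x : Matrix (Fin 2) (Fin 2) F) * (g : Matrix (Fin 2) (Fin 2) F) =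
      (g : Matrix (Fin 2) (Fin 2) F) * x
    have h2 : (g : Matrix (Fin 2) (Fin 2) F) = d⁻¹ • (A : Matrix (Fin 2) (Fin 2) F) := rfl
    rw [coe_cj, h2, Matrix.mul_smul, Matrix.smul_mul, mul_assoc, ← Units.val_mul, inv_mul_cancel,
      Units.val_one, mul_one]
  rw [← h1, mul_inv_cancel_right]

theorem isSquare_mul_of_not [Finite F] {a b : F} (ha : ¬ IsSquare a) (hb : ¬ IsSquare b) :
    IsSquare (a * b) := by
  classical
  have : Fintype F := Fintype.ofFinite F
  by_cases h2 : ringChar F = 2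
  · exact absurd (FiniteField.isSquare_of_char_two h2 a) ha
  have ha0 : a ≠ 0 := by rintro rfl; exact ha (IsSquare.zero)
  have hb0 : b ≠ 0 := by rintro rfl; exact hb (IsSquare.zero)
  have h1 := (quadraticChar_neg_one_iff_not_isSquare (F := F) (a := a)).2 ha
  have h3 := (quadraticChar_neg_one_iff_not_isSquare (F := F) (a := b)).2 hb
  rw [← quadraticChar_one_iff_isSquare (mul_ne_zero ha0 hb0), map_mul, h1, h3]
  norm_num

/-- If an automorphism preserves the conjugacy classes, its field part is `1` or an involution. -/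
theorem sq_eq_of_conj {A : GL (Fin 2) F} {σ : F ≃+* F}
    (h : ∀ x : ProjectiveSpecialLinearGroup (Fin 2) F, IsConj x (lift (cj A * fld σ) x)) :
    σ * σ = 1 := by
  have key : ∀ t : F, σ t = t ∨ σ t = -t := by
    intro t
    let g : SpecialLinearGroup (Fin 2) F := ⟨!![t, -1; 1, 0], by rw [Matrix.det_fin_two_of]; ring⟩
    obtain ⟨c, hc⟩ := isConj_iff.1 (h (pr g))
    obtain ⟨c, rfl⟩ := pr_surjective c
    rw [lift_pr, ← map_inv, ← map_mul, ← map_mul] at hc
    obtain ⟨r, hr⟩ := exists_smul_of_pr_eq hc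
    have hr2 : r * r = 1 := by
      have h1 := congrArg Matrix.det hr
      rw [Matrix.det_smul, Fintype.card_fin] at h1
      have h2 : (((cj A * fld σ : MulAut (SpecialLinearGroup (Fin 2) F)) g :
        SpecialLinearGroup (Fin 2) F) : Matrix (Fin 2) (Fin 2) F).det = 1 :=
        ((cj A * fld σ : MulAut (SpecialLinearGroup (Fin 2) F)) g).2
      have h3 : ((c * g * c⁻¹ : SpecialLinearGroup (Fin 2) F) : Matrix (Fin 2) (Fin 2) F).det = 1 :=
        (c * g * c⁻¹).2
      rw [h2, h3, mul_one, pow_two] at h1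
      exact h1.symm
    have h1 := congrArg Matrix.trace hr
    rw [MulAut.mul_apply, coe_cj, Matrix.trace_mul_comm, ← mul_assoc, ← Units.val_mul,
      inv_mul_cancel, Units.val_one, one_mul, Matrix.trace_smul] at h1
    have h2 : (fld σ g : Matrix (Fin 2) (Fin 2) F).trace = σ t := by
      rw [Matrix.trace_fin_two, coe_fld_apply, coe_fld_apply]
      show σ t + σ 0 = σ t
      rw [map_zero, add_zero]
    have h3 : ((c * g * c⁻¹ : SpecialLinearGroup (Fin 2) F) : Matrix (Fin 2) (Fin 2) F).trace = t := by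
      have e1 : ((c * g * c⁻¹ : SpecialLinearGroup (Fin 2) F) : Matrix (Fin 2) (Fin 2) F) =
        (c : Matrix (Fin 2) (Fin 2) F) * (g : Matrix (Fin 2) (Fin 2) F) *
          ((c⁻¹ : SpecialLinearGroup (Fin 2) F) : Matrix (Fin 2) (Fin 2) F) := rfl
      have e2 : ((c⁻¹ : SpecialLinearGroup (Fin 2) F) : Matrix (Fin 2) (Fin 2) F) *
        (c : Matrix (Fin 2) (Fin 2) F) = 1 := congrArg Subtype.val (inv_mul_cancel c)
      rw [e1, Matrix.trace_mul_comm, ← mul_assoc, e2, one_mul, Matrix.trace_fin_two]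
      show t + 0 = t
      rw [add_zero]
    rw [h2, h3, smul_eq_mul] at h1
    rcases mul_self_eq_one_iff.1 hr2 with h4 | h4
    · left; rw [h1, h4, one_mul]
    · right; rw [h1, h4, neg_one_mul]
  apply RingEquiv.ext
  intro t
  show σ (σ t) = t
  rcases key t with h1 | h1
  · rw [h1, h1]
  · rw [h1, map_neg, h1, neg_neg]

theorem lift_cj_coe (x : SpecialLinearGroup (Fin 2) F) :
    lift (cj (x : GL (Fin 2) F)) = MulAut.conj (pr x) := by
  apply MulEquiv.ext
  intro y
  obtain ⟨y, rfl⟩ := pr_surjective y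
  rw [lift_pr, MulAut.conj_apply, ← map_inv, ← map_mul, ← map_mul]
  congr 1

/-- The `p`-subgroups are commutative. -/
theorem comm_of_pGroup [Finite F] {p : ℕ} [hp : Fact p.Prime] [CharP F p]
    {Q : Subgroup (ProjectiveSpecialLinearGroup (Fin 2) F)} (hQ : IsPGroup p Q) :
    ∀ a ∈ Q, ∀ b ∈ Q, a * b = b * a := by
  have : Fintype F := Fintype.ofFinite F
  obtain ⟨S, hS⟩ := exists_sylow (F := F) 2 p
  have hScomm : ∀ a ∈ (S : Subgroup (ProjectiveSpecialLinearGroup (Fin 2) F)),
      ∀ b ∈ (S : Subgroup (ProjectiveSpecialLinearGroup (Fin 2) F)), a * b = b * a := by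
    rw [hS]
    rintro _ ⟨a, ha, rfl⟩ _ ⟨b, hb, rfl⟩
    rw [← map_mul, ← map_mul]
    congr 1
    rw [SetLike.mem_coe, mem_upper] at ha hb
    have a0 : (a : Matrix (Fin 2) (Fin 2) F) 0 0 = 1 := by simpa using ha 0 0 le_rfl
    have a1 : (a : Matrix (Fin 2) (Fin 2) F) 1 1 = 1 := by simpa using ha 1 1 le_rfl
    have a2 : (a : Matrix (Fin 2) (Fin 2) F) 1 0 = 0 := by simpa using ha 1 0 (by decide)
    have b0 : (b : Matrix (Fin 2) (Fin 2) F) 0 0 = 1 := by simpa using hb 0 0 le_rfl
    have b1 : (b : Matrix (Fin 2) (Fin 2) F) 1 1 = 1 := by simpa using hb 1 1 le_rfl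
    have b2 : (b : Matrix (Fin 2) (Fin 2) F) 1 0 = 0 := by simpa using hb 1 0 (by decide)
    apply Subtype.ext
    show (a : Matrix (Fin 2) (Fin 2) F) * (b : Matrix (Fin 2) (Fin 2) F) =
      (b : Matrix (Fin 2) (Fin 2) F) * (a : Matrix (Fin 2) (Fin 2) F)
    ext i j
    rw [Matrix.mul_apply, Matrix.mul_apply, Fin.sum_univ_two, Fin.sum_univ_two]
    fin_cases i <;> fin_cases j <;> simp [a0, a1, a2, b0, b1, b2, add_comm]
  obtain ⟨T, hT⟩ := hQ.exists_le_sylow
  obtain ⟨g, hg⟩ := MulAction.exists_smul_eq (ProjectiveSpecialLinearGroup (Fin 2) F) S T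
  intro a ha b hb
  have key : ∀ a ∈ Q, ∃ c ∈ (S : Subgroup (ProjectiveSpecialLinearGroup (Fin 2) F)),
      a = g * c * g⁻¹ := by
    intro a ha
    have h1 : a ∈ (T : Subgroup (ProjectiveSpecialLinearGroup (Fin 2) F)) := hT ha
    rw [← hg] at h1
    obtain ⟨c, hc, hca⟩ := h1
    exact ⟨c, hc, hca.symm⟩
  obtain ⟨c, hc, rfl⟩ := key a ha
  obtain ⟨d, hd, rfl⟩ := key b hb
  have h1 : g * c * g⁻¹ * (g * d * g⁻¹) = g * (c * d) * g⁻¹ := by group
  have h2 : g * d * g⁻¹ * (g * c * g⁻¹) = g * (d * c) * g⁻¹ := by group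
  rw [h1, h2, hScomm c hc d hd]

end field

theorem mem_of_sq_mem {G : Type*} [Group G] [Finite G] {T : Subgroup G} {y : G}
    (hy : Odd (orderOf y)) (h : y * y ∈ T) : y ∈ T := by
  obtain ⟨m, hm⟩ := hy
  have h1 : y = (y * y) ^ (m + 1) := by
    rw [← pow_two, ← pow_mul, show 2 * (m + 1) = (2 * m + 1) + 1 by ring, ← hm, pow_succ,
      pow_orderOf_eq_one, one_mul]
  rw [h1]
  exact Subgroup.pow_mem _ h _

/-- **The case of `PSL₂(p^f)`.** -/
theorem pslHyp {p : ℕ} [hp : Fact p.Prime] (hp2 : p ≠ 2) : PslHyp.{u} p := by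
  intro G _ _ L hL f hf ⟨e⟩ hC hvan P
  have hFfin : Finite (GaloisField p f) := inferInstance
  have : Fintype (GaloisField p f) := Fintype.ofFinite _
  let al : G →* MulAut (ProjectiveSpecialLinearGroup (Fin 2) (GaloisField p f)) :=
    (MulAut.congr e).toMonoidHom.comp MulAut.conjNormal
  have hal : ∀ (g : G) (x : L), al g (e x) = e (MulAut.conjNormal g x) := fun g x => by
    show e (MulAut.conjNormal g (e.symm (e x))) = _
    rw [e.symm_apply_apply]
  choose A s hs using fun g => surj_two p (al g)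
  have hmul : ∀ g h, s (g * h) = s g * s h := by
    intro g h
    have h1 : lift (cj (A (g * h)) * fld (s (g * h))) =
        lift (cj (A g * gmap (s g) (A h)) * fld (s g * s h)) := by
      rw [← hs, map_mul al, hs g, hs h, ← map_mul, mul_assoc (cj (A g)), ← mul_assoc (fld (s g)),
        fld_mul_cj, map_mul cj, map_mul fld]
      simp only [mul_assoc]
    exact (lift_eq h1).2
  let ε : G →* (GaloisField p f ≃+* GaloisField p f) := MonoidHom.mk' s hmul
  have hε : ∀ g, ε g = s g := fun g => rfl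
  have hinner : ∀ g : G, (∃ x : SpecialLinearGroup (Fin 2) (GaloisField p f),
      al g = MulAut.conj (pr x)) → g ∈ L := by
    rintro g ⟨x, hx⟩
    obtain ⟨l, hl⟩ := e.surjective (pr x)
    have h2 : (l : G)⁻¹ * g ∈ Subgroup.centralizer (L : Set G) := by
      rw [Subgroup.mem_centralizer_iff]
      intro y hy
      have h3 : MulAut.conjNormal g (⟨y, hy⟩ : L) = l * ⟨y, hy⟩ * l⁻¹ := by
        apply e.injective
        rw [← hal, hx, MulAut.conj_apply, map_mul, map_mul, map_inv, hl]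
      have h4 : g * y * g⁻¹ = l * y * (l : G)⁻¹ := congrArg Subtype.val h3
      have h5 : (l : G)⁻¹ * (g * y * g⁻¹) * g = (l : G)⁻¹ * (l * y * (l : G)⁻¹) * g := by rw [h4]
      have h6 : (l : G)⁻¹ * (g * y * g⁻¹) * g = (l : G)⁻¹ * g * y := by group
      have h7 : (l : G)⁻¹ * (l * y * (l : G)⁻¹) * g = y * ((l : G)⁻¹ * g) := by group
      rw [h6, h7] at h5
      exact h5.symm
    rw [hC, Subgroup.mem_bot, inv_mul_eq_one] at h2
    rw [← h2]
    exact l.2
  have hL1 : ∀ g ∈ L, s g = 1 := by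
    intro g hg
    obtain ⟨x, hx⟩ := pr_surjective (e ⟨g, hg⟩)
    have h1 : al g = MulAut.conj (pr x) := by
      apply MulEquiv.ext
      intro y
      obtain ⟨y, rfl⟩ := e.surjective y
      rw [hal, hx, MulAut.conj_apply, ← map_mul, ← map_inv, ← map_mul]
      rfl
    rw [← lift_cj_coe, hs] at h1
    have h2 : lift (cj (A g) * fld (s g)) = lift (cj (x : GL (Fin 2) (GaloisField p f)) * fld 1) := by
      rw [map_one, mul_one]
      exact h1
    exact (lift_eq h2).2
  have hK : ∀ k, s k = 1 → al k = lift (cj (A k)) := by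
    intro k hk
    rw [hs, hk, map_one, mul_one]
  have hsqL : ∀ k, s k = 1 → IsSquare ((A k : GL (Fin 2) (GaloisField p f)) :
      Matrix (Fin 2) (Fin 2) (GaloisField p f)).det → k ∈ L := by
    intro k hk h
    obtain ⟨g, hg⟩ := lift_cj_inner h
    exact hinner k ⟨g, (hK k hk).trans hg⟩
  have hprod : ∀ k k' : G, s k = 1 → s k' = 1 → k ∉ L → k' ∉ L → k * k' ∈ L := by
    intro k k' hk hk' hkL hkL'
    have h1 := isSquare_mul_of_not (fun h => hkL (hsqL k hk h)) (fun h => hkL' (hsqL k' hk' h))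
    have h2 : IsSquare ((A k * A k' : GL (Fin 2) (GaloisField p f)) :
      Matrix (Fin 2) (Fin 2) (GaloisField p f)).det := by
      rw [Units.val_mul, Matrix.det_mul]
      exact h1
    obtain ⟨g, hg⟩ := lift_cj_inner h2
    refine hinner _ ⟨g, ?_⟩
    rw [map_mul, hK k hk, hK k' hk', ← map_mul, ← map_mul, hg]
  have hPL : (P : Subgroup G) ≤ L := by
    intro y hy
    obtain ⟨j, hj⟩ := (IsPGroup.iff_orderOf.1 P.2) ⟨y, hy⟩
    rw [Subgroup.orderOf_mk] at hj
    have hodd : Odd (orderOf y) := by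
      rw [hj]
      exact (hp.out.odd_of_ne_two hp2).pow
    by_cases hsy : s y = 1
    · apply mem_of_sq_mem hodd
      by_cases hyL : y ∈ L
      · exact L.mul_mem hyL hyL
      · exact hprod y y hsy hsy hyL hyL
    exfalso
    -- some irreducible character of `L` is moved by `y`
    obtain ⟨z, hz⟩ : ∃ z : L, ¬ IsConj z (MulAut.conjNormal y z) := by
      by_contra hcon
      push Not at hcon
      apply hsy
      have h1 : s y * s y = 1 := by
        apply sq_eq_of_conj (A := A y)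
        intro x
        obtain ⟨z, rfl⟩ := e.surjective x
        rw [← hs, hal]
        obtain ⟨c, hc⟩ := isConj_iff.1 (hcon z)
        rw [← hc]
        exact isConj_iff.2 ⟨e c, by rw [map_mul, map_mul, map_inv]⟩
      have h2 : ε y * ε y ∈ (⊥ : Subgroup (GaloisField p f ≃+* GaloisField p f)) := h1
      have hfin : Finite (GaloisField p f ≃+* GaloisField p f) :=
        Finite.of_injective (fun σ : GaloisField p f ≃+* GaloisField p f =>
          (σ : GaloisField p f → GaloisField p f)) DFunLike.coe_injective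
      have h3 : Odd (orderOf (ε y)) := hodd.of_dvd_nat (orderOf_map_dvd ε y)
      exact mem_of_sq_mem h3 h2
    rw [GaloisIrr.isConj_iff_forall_irr] at hz
    push Not at hz
    obtain ⟨θ, hθ, hne⟩ := hz
    let T : Subgroup G :=
      { carrier := {x | ∀ n : L, θ (MulAut.conjNormal x n) = θ n}
        mul_mem' := by
          intro a b ha hb n
          rw [map_mul, MulAut.mul_apply, ha, hb]
        one_mem' := by
          intro n
          rw [map_one, MulAut.one_apply]
        inv_mem' := by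
          intro a ha n
          have h1 := ha (MulAut.conjNormal a⁻¹ n)
          rw [← MulAut.mul_apply, ← map_mul, mul_inv_cancel, map_one, MulAut.one_apply] at h1
          exact h1.symm }
    have hLT : L ≤ T := by
      intro l hl n
      have h1 : MulAut.conjNormal l n = (⟨l, hl⟩ : L) * n * (⟨l, hl⟩ : L)⁻¹ := by
        apply Subtype.ext
        rfl
      rw [h1]
      exact Core.isIrr_isClassFunction hθ n _
    have hvy : Vn y := by
      refine Vn.of_not_inertia L θ hθ y fun g hg => ?_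
      have hw : g * y * g⁻¹ ∈ T := by
        intro n
        have h4 : (⟨g * y * g⁻¹ * (n : G) * (g * y * g⁻¹)⁻¹, hL.conj_mem _ n.2 (g * y * g⁻¹)⟩ : L) =
            MulAut.conjNormal (g * y * g⁻¹) n := by
          apply Subtype.ext
          rfl
        rw [← h4]
        exact hg n
      set w := g * y * g⁻¹ with hwdef
      have hsw : s w = s y := by
        rw [hwdef, ← hε, map_mul, map_mul, ringAut_comm (ε g), mul_assoc, ← map_mul ε g,
          mul_inv_cancel, map_one, mul_one, hε]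
      have hsk : s (y⁻¹ * w) = 1 := by
        rw [← hε, map_mul, hε w, hsw, map_inv, hε, inv_mul_cancel]
      have hsk' : s (y⁻¹ * (y⁻¹ * w) * y) = 1 := by
        rw [← hε, map_mul, map_mul, hε (y⁻¹ * w), hsk, mul_one, ← map_mul, inv_mul_cancel, map_one]
      have hm : y⁻¹ * (y⁻¹ * w) * y * (y⁻¹ * w) ∈ L := by
        by_cases hk : y⁻¹ * w ∈ L
        · refine L.mul_mem ?_ hk
          have := hL.conj_mem _ hk y⁻¹
          rwa [inv_inv] at this
        · refine hprod _ _ hsk' hsk (fun h => hk ?_) hk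
          have h5 := hL.conj_mem _ h y
          have h6 : y * (y⁻¹ * (y⁻¹ * w) * y) * y⁻¹ = y⁻¹ * w := by group
          rwa [h6] at h5
      have hy2 : y * y ∈ T := by
        have h6 : y * y = w * w * (y⁻¹ * (y⁻¹ * w) * y * (y⁻¹ * w))⁻¹ := by
          group
          exact (zpow_two y).symm
        rw [h6]
        exact T.mul_mem (T.mul_mem hw hw) (T.inv_mem (hLT hm))
      exact hne (mem_of_sq_mem hodd hy2 z).symm
    have hpy : p ∣ orderOf y := by
      rw [hj]
      refine dvd_pow_self p fun hj0 => hsy ?_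
      rw [hj0, pow_zero, orderOf_eq_one_iff] at hj
      rw [hj, ← hε, map_one]
    exact hsy (hL1 y (hvan y hvy hpy))
  intro a ha b hb
  have hQ : IsPGroup p (((P : Subgroup G).subgroupOf L).map e.toMonoidHom) :=
    (P.2.comap_subtype (K := L)).map e.toMonoidHom
  have h1 := comm_of_pGroup hQ (e ⟨a, hPL ha⟩) ⟨⟨a, hPL ha⟩, ha, rfl⟩ (e ⟨b, hPL hb⟩)
    ⟨⟨b, hPL hb⟩, hb, rfl⟩
  rw [← map_mul, ← map_mul] at h1
  exact congrArg Subtype.val (e.injective h1)

end Cfsg.Agent.H387.VO.Psl
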