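import Cfsg.Agent.H387.VO.Final
import Cfsg.Agent.H387.VO.OwnChar
import Cfsg.Agent.H387.VO.Psl
import Cfsg.Agent.H713.Engine
import Cfsg.Agent.H720.PV.Tools
import Cfsg.Agent.H686.VO.Alt
import Cfsg.Agent.H541.VanSzRee
import Cfsg.Agent.H33.IM
import Cfsg.Agent.OddHalf.Known

/-!
# S4987: the rows of all the known simple groups (helper387)
-/

set_option autoImplicit false

namespace Cfsg.Agent.H387.VO.Known

open Cfsg Cfsg.Agent.Characters Cfsg.Agent.H620 Cfsg.Agent.H620.PNorm

universe u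

/-- A character of degree divisible by `p`, when `p` divides the order exactly once. -/
theorem vsing_of_im {S : Type u} [Group S] [Finite S] {p : ℕ} [hp : Fact p.Prime] (h : H33.IM p S)
    (h1 : (Nat.card S).factorization p = 1) : VSing p S := by
  obtain ⟨χ, hχ⟩ := h
  have hdz : H665.NoPQ.HasDZ p S := by
    refine H720.PV.hasDZ_of_degree χ.2 (Cfsg.Agent.Blocks.Basic.irr_one_eq_charDegree χ.2) ?_
    rw [h1, pow_one]
    exact hχ
  have hd : p ∣ Nat.card S := by
    by_contra hnd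
    rw [Nat.factorization_eq_zero_of_not_dvd hnd] at h1
    exact zero_ne_one h1
  obtain ⟨x, hx⟩ := exists_prime_orderOf_dvd_card' (G := S) p hd
  exact ⟨x, by rw [hx], H713.HasDZ.vz hdz (by rw [hx])⟩

/-- `VSing` from the row. -/
theorem vsing_of_row {S : Type u} [Group S] [Finite S] [IsSimpleGroup S] {p : ℕ} [hp : Fact p.Prime]
    (h : H33.IM p S) (hrow : Row p S) : VSing p S := by
  rcases hrow with h1 | ⟨f, hf, ⟨e⟩⟩ | ⟨x, -, hx, -, hv, -⟩
  · exact vsing_of_im h h1
  · have hfin : Finite (GaloisField p f) := inferInstance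
    have : Fintype (GaloisField p f) := Fintype.ofFinite _
    have hc : Nat.card (GaloisField p f) = p ^ f := GaloisField.card p f (by omega)
    have h4 : 4 ≤ Fintype.card (GaloisField p f) := by
      rw [← Nat.card_eq_fintype_card, hc]
      calc 4 = 2 ^ 2 := by norm_num
        _ ≤ p ^ 2 := Nat.pow_le_pow_left hp.out.two_le 2
        _ ≤ p ^ f := Nat.pow_le_pow_right hp.out.pos hf
    have hk : Kill S p := Own.kill_of_lie hp.out
      (Or.inl ⟨GaloisField p f, inferInstance, inferInstance, inferInstance, 2, le_rfl, fun _ => h4, ⟨e⟩⟩)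
    have hd : p ∣ Nat.card S := by
      obtain ⟨χ, hχ⟩ := h
      exact hχ.trans (Cfsg.Agent.Blocks.Knorr.charDegree_dvd χ.2)
    obtain ⟨x, hx⟩ := exists_prime_orderOf_dvd_card' (G := S) p hd
    exact ⟨x, by rw [hx], hk.vz (by rw [hx])⟩
  · exact ⟨x, hx, hv⟩

/-- The families which are not yet done. -/
structure Fam (p : ℕ) [Fact p.Prime] : Prop where
  psl : ∀ (K : Type u) [Group K] [Finite K] [IsSimpleGroup K] (r : ℕ), r.Prime → p ≠ r →
    IsPSLChar r K → p ∣ Nat.card K → Row p K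
  psp : ∀ (K : Type u) [Group K] [Finite K] [IsSimpleGroup K] (r : ℕ), r.Prime → p ≠ r →
    IsPSpChar r K → p ∣ Nat.card K → Row p K
  psu : ∀ (K : Type u) [Group K] [Finite K] [IsSimpleGroup K] (r : ℕ), r.Prime → p ≠ r →
    IsPSUChar r K → p ∣ Nat.card K → Row p K
  oodd : ∀ (K : Type u) [Group K] [Finite K] [IsSimpleGroup K] (r : ℕ), r.Prime → p ≠ r →
    IsPOmegaOddChar r K → p ∣ Nat.card K → Row p K
  oplus : ∀ (K : Type u) [Group K] [Finite K] [IsSimpleGroup K] (r : ℕ), r.Prime → p ≠ r →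
    IsPOmegaPlusChar r K → p ∣ Nat.card K → Row p K
  ominus : ∀ (K : Type u) [Group K] [Finite K] [IsSimpleGroup K] (r : ℕ), r.Prime → p ≠ r →
    IsPOmegaMinusChar r K → p ∣ Nat.card K → Row p K
  exc : ∀ (K : Type u) [Group K] [Finite K] [IsSimpleGroup K] (r : ℕ), r.Prime → p ≠ r →
    IsExceptionalChevChar r K → p ∣ Nat.card K → Row p K
  tw : ∀ (K : Type u) [Group K] [Finite K] [IsSimpleGroup K] (r : ℕ), r.Prime → p ≠ r →
    IsTwistedE6D4Char r K → p ∣ Nat.card K → Row p K
  twf : ∀ (K : Type u) [Group K] [Finite K] [IsSimpleGroup K],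
    Lie.Iso2F4 K → p ∣ Nat.card K → Row p K
  tits : ∀ (K : Type u) [Group K] [Finite K] [IsSimpleGroup K],
    Lie.IsoTits K → p ∣ Nat.card K → Row p K
  spor : ∀ (K : Type u) [Group K] [Finite K] [IsSimpleGroup K],
    IsSporadicGroup K → p ∣ Nat.card K → Row p K

/-- All the rows. -/
theorem row_of_known {p : ℕ} [hp : Fact p.Prime] (hp5 : 5 ≤ p) (R : Fam.{u} p) {K : Type u} [Group K]
    [Finite K] [IsSimpleGroup K] (hna : ¬ IsMulCommutative K) (h : IsKnownSimple' K)
    (hd : p ∣ Nat.card K) : Row p K := by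
  rcases Cfsg.Agent.OddHalf.Known.classify' hna h with h | ⟨r, hr, h⟩ | h | h
  · obtain ⟨n, hn, ⟨e⟩⟩ := h
    exact H686.VO.Alt.row_iso ⟨e⟩ hp5 hd
  · by_cases hpr : p = r
    · subst hpr
      exact Own.row_own hp5 h
    · rcases h with h | h | h | h | h | h | h | h | h | h | h
      · exact R.psl K r hr hpr h hd
      · exact R.psp K r hr hpr h hd
      · exact R.psu K r hr hpr h hd
      · exact R.oodd K r hr hpr h hd
      · exact R.oplus K r hr hpr h hd
      · exact R.ominus K r hr hpr h hd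
      · exact R.exc K r hr hpr h hd
      · exact R.tw K r hr hpr h hd
      · exact H541.VanSzRee.row_sz hp5 h.2 hd
      · exact R.twf K h.2 hd
      · exact H541.VanSzRee.row_ree hp5 h.2 hd
  · exact R.tits K h hd
  · exact R.spor K h hd

/-- **S4987 from the rows and the classification.** -/
theorem final {p : ℕ} [hp : Fact p.Prime] (hp5 : 5 ≤ p) (hCC : CCAll.{u}) (hgr : Gross.{u} p)
    (R : Fam.{u} p) (hIM : H33.Core.{u} p)
    (hkn : ∀ (S : Type u) [Group S] [Finite S] [IsSimpleGroup S], IsKnownSimple' S)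
    {G : Type u} [Group G] [Finite G] (h0 : H727.VanEl.OneVan p G) (P : Sylow p G) :
    ((commutator ↥(P : Subgroup G)).map (P : Subgroup G).subtype).IsSubnormal ∧
    ((¬ ∃ (H : Subgroup G) (K : Subgroup ↥H) (_ : K.Normal), H.IsSubnormal ∧ ∃ f : ℕ, 2 ≤ f ∧
      Nonempty (↥H ⧸ K ≃* Matrix.ProjectiveSpecialLinearGroup (Fin 2) (GaloisField p f))) →
      Nat.card ↥(P : Subgroup G) ≤ p * Nat.card ↥(Cfsg.pCore p G)) := by
  have hnc : ∀ (S : Type u) [Group S], (∃ a b : S, a * b ≠ b * a) → ¬ IsMulCommutative S := by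
    rintro S _ ⟨a, b, hab⟩ h
    exact hab (h.is_comm.comm a b)
  have hrow : ∀ (S : Type u) [Group S] [Finite S] [IsSimpleGroup S], (∃ a b : S, a * b ≠ b * a) →
      p ∣ Nat.card S → Row p S := fun S _ _ _ hna hd => row_of_known hp5 R (hnc S hna) (hkn S) hd
  exact of_rows hCC (fun S _ _ hS hna hd => vsing_of_row (hIM S hS (hkn S) (hnc S hna) hd)
    (hrow S hna hd)) hrow (Psl.pslHyp (by omega)) hgr h0 P

end Cfsg.Agent.H387.VO.Known
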