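import Cfsg.Agent.H387.VO.Coprime

/-!
# Groups with one class of `p`-singular vanishing elements: nonabelian minimal normal subgroups
(helper387, S4987)

* `minimal_data` : a simple factor `T` of a nonabelian minimal normal subgroup `N`: either `T = N`, or
  every `x ∈ T` as above has a non-conjugate `p`-singular vanishing companion.
-/

set_option autoImplicit false

namespace Cfsg.Agent.H387.VO

open Cfsg Cfsg.Agent.Characters Subgroup Cfsg.Agent.H620.PNorm Cfsg.Agent.H727.VanEl

universe u

/-- A simple factor of a nonabelian minimal normal subgroup. -/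
theorem minimal_data {G : Type u} [Group G] [Finite G] (N : Subgroup G) [hN : N.Normal]
    (hmin : ∀ M : Subgroup G, M.Normal → M ≤ N → M = ⊥ ∨ M = N)
    (hna : ¬ ∀ x ∈ N, ∀ y ∈ N, Commute x y) (p : ℕ) [hp : Fact p.Prime] (hpN : p ∣ Nat.card N) :
    ∃ T : Subgroup G, T ≤ N ∧ IsSimpleGroup T ∧ (∃ a b : T, a * b ≠ b * a) ∧ p ∣ Nat.card T ∧
      (∀ x : T, H713.VZ T x → H713.Van G (x : G)) ∧
      (T = N ∨ ∀ x : T, H713.VZ T x → p ∣ orderOf x →
        ∃ y : G, H713.Van G y ∧ p ∣ orderOf y ∧ ¬ IsConj (x : G) y) := by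
  classical
  obtain ⟨m, T, e, hm, hsimple, hTna, hTinj, hTN, hTn, hconj, htrans, he, hcoord⟩ :=
    Cfsg.Agent.PermutationGroups.OnanScott.exists_coordinates N hmin hna
  set o : Fin m := ⟨0, hm⟩ with ho
  have hvanN : ∀ x : T o, H713.VZ (T o) x → ∀ n : N, e n o = x → H713.Van G (n : G) := by
    intro x hx
    obtain ⟨θ, hθ⟩ := hx
    choose g hg using fun i => htrans o i
    have := Fintype.ofFinite (T o)
    let Θ : N → ℂ := fun n => ∏ i, (θ : T o → ℂ) ((H713.conjIso (g i) (hg i)).symm (e n i))
    have hΘ : IsIrrCharacter N Θ := by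
      have h1 := H713.isIrr_pi (ι := Fin m) θ.2
      let E : N ≃* (Fin m → T o) :=
        e.trans (MulEquiv.piCongrRight fun i => (H713.conjIso (g i) (hg i)).symm)
      exact Core.isIrr_comp (E : N →* (Fin m → T o)) E.surjective h1
    obtain ⟨χ, hχ⟩ := H713.exists_lift N hΘ
    intro n hn
    refine ⟨χ, hχ n fun k => ?_⟩
    obtain ⟨j, hj⟩ := hconj k o
    refine Finset.prod_eq_zero (Finset.mem_univ j) ?_
    have h1 := H713.coord_conj e hTN he hcoord k o j hj n
    have h2 : e (MulAut.conjNormal k n) j = H713.conjIso k hj x := by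
      apply Subtype.ext
      rw [h1, H713.conjIso_apply, hn]
    rw [h2]
    exact hθ ((H713.conjIso k hj).trans (H713.conjIso (g j) (hg j)).symm)
  have hcardT : p ∣ Nat.card (T o) := by
    have h1 : Nat.card N = ∏ i, Nat.card (T i) := by
      rw [Nat.card_congr e.toEquiv, Nat.card_pi]
    have h2 : ∀ i, Nat.card (T i) = Nat.card (T o) := by
      intro i
      obtain ⟨g, hg⟩ := htrans o i
      exact (Nat.card_congr (H713.conjIso g hg).toEquiv).symm
    rw [h1] at hpN
    obtain ⟨i, -, hi⟩ := (Prime.dvd_finsetProd_iff hp.out.prime _).1 hpN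
    rw [← h2 i]
    exact hi
  refine ⟨T o, hTN o, hsimple o, hTna o, hcardT, fun x hx => ?_, ?_⟩
  · have h3 := hvanN x hx (e.symm (Pi.mulSingle o x)) (by simp)
    rwa [he] at h3
  · by_cases h1 : ∃ i, i ≠ o
    · right
      obtain ⟨i, hi⟩ := h1
      intro x hx hpx
      -- the element with all the other coordinates nontrivial
      have hnt : ∀ k, ∃ t : T k, t ≠ 1 := by
        intro k
        have := (hsimple k).toNontrivial
        exact exists_ne 1
      choose t ht using hnt
      let n : N := e.symm (Function.update t o x)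
      have hno : e n o = x := by
        simp [n]
      have hnk : ∀ k, k ≠ o → e n k = t k := by
        intro k hk
        simp [n, hk]
      have hx1 : x ≠ 1 := by
        rintro rfl
        rw [orderOf_one] at hpx
        exact hp.out.one_lt.ne' (Nat.dvd_one.1 hpx)
      have hnk1 : ∀ k, e n k ≠ 1 := by
        intro k
        by_cases hk : k = o
        · subst hk
          rw [hno]
          exact hx1
        · rw [hnk k hk]
          exact ht k
      refine ⟨n, hvanN x hx n hno, ?_, ?_⟩
      · rw [Subgroup.orderOf_coe, ← MulEquiv.orderOf_eq e n]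
        refine hpx.trans ?_
        rw [← hno]
        exact orderOf_map_dvd (Pi.evalMonoidHom (fun i => T i) o) (e n)
      · intro hc
        obtain ⟨c, hc⟩ := isConj_iff.1 hc
        obtain ⟨j, hj⟩ := hconj c i
        apply hnk1 j
        rw [hcoord]
        intro s hs
        rw [hj] at hs
        obtain ⟨s, hs, rfl⟩ := hs
        have h2 : Commute (x : G) s := by
          have h3 : e (e.symm (Pi.mulSingle o x)) i = 1 := by
            rw [MulEquiv.apply_symm_apply, Pi.mulSingle_eq_of_ne hi]
          rw [hcoord] at h3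
          have h4 := h3 s hs
          rwa [he] at h4
        rw [← hc]
        have h3 := h2.map (MulAut.conj c).toMonoidHom
        simpa using h3
    · left
      push Not at h1
      apply le_antisymm (hTN o)
      intro n hn
      have h2 : e ⟨n, hn⟩ = Pi.mulSingle o (e ⟨n, hn⟩ o) := by
        funext i
        rw [h1 i]
        simp
      have h3 : (⟨n, hn⟩ : N) = e.symm (Pi.mulSingle o (e ⟨n, hn⟩ o)) := by
        rw [← h2, MulEquiv.symm_apply_apply]
      have h4 := congrArg Subtype.val h3
      rw [he] at h4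
      have h5 : n = ((e ⟨n, hn⟩ o : T o) : G) := h4
      rw [h5]
      exact (e ⟨n, hn⟩ o).2

end Cfsg.Agent.H387.VO
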